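import Groth.Agent.Lib.CycDetL.Basic

universe u v

namespace GrothLib.CycDetL

open IsLocalRing CycDet

variable {R : Type u} [CommRing R] [IsLocalRing R] {M : Type v} [AddCommGroup M] [Module R M]
variable {l : ℕ}

theorem strict_mem_of_sup {e : Fin l → M} (hs : Strict (R := R) e) (i : Fin l) {r : R}
    (hk : ∀ s ∈ maximalIdeal R, s • e i ∈ spanBefore R M e i)
    (h : r • e i ∈ spanBefore R M e i) : r ∈ maximalIdeal R := by
  rw [mem_maximalIdeal, mem_nonunits_iff]
  intro hu
  refine hs i ?_
  simpa [smul_smul] using Submodule.smul_mem _ ((↑hu.unit⁻¹ : R)) h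

/-- existence of a socle element -/
theorem exists_socle [IsArtinian R M] [Nontrivial M] :
    ∃ x : M, x ≠ 0 ∧ ∀ r ∈ maximalIdeal R, r • x = 0 := by
  obtain ⟨N, hN, hmin⟩ := WellFounded.has_min (wellFounded_lt : WellFounded fun (a b : Submodule R M) => a < b)
    {N | N ≠ ⊥} ⟨⊤, by simp⟩
  obtain ⟨x, hxN, hx⟩ := Submodule.exists_mem_ne_zero_of_ne_bot hN
  refine ⟨x, hx, fun r hr => ?_⟩
  by_contra hrx
  have h1 : R ∙ (r • x) = N := by
    refine ((Submodule.span_singleton_le_iff_mem _ _).2 (N.smul_mem r hxN)).eq_of_not_lt fun hlt => ?_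
    exact hmin _ (by simpa using hrx) hlt
  rw [← h1] at hxN
  obtain ⟨s, hs⟩ := Submodule.mem_span_singleton.1 hxN
  have hu : IsUnit (1 - s * r) := isUnit_one_sub_self_of_mem_nonunits _ (by
    rw [← mem_maximalIdeal]; exact Ideal.mul_mem_left _ _ hr)
  apply hx
  have : (1 - s * r) • x = 0 := by rw [sub_smul, one_smul, mul_smul, hs, sub_self]
  exact (hu.smul_eq_zero).1 this

/-- `(i, c)` locate the socle element `x` in the tuple `e`. -/
def Loc (x : M) (e : Fin l → M) (i : Fin l) (c : Rˣ) : Prop :=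
  x ∉ spanBefore R M e i ∧ x - (c : R) • e i ∈ spanBefore R M e i

theorem Loc.mem_succ {x : M} {e : Fin l → M} {i : Fin l} {c : Rˣ} (h : Loc x e i c) :
    x ∈ spanBefore R M e ((i : ℕ) + 1) := by
  rw [spanBefore_succ, ← sub_add_cancel x ((c : R) • e i)]
  exact Submodule.add_mem_sup h.2 (Submodule.smul_mem _ _ (Submodule.mem_span_singleton_self _))

theorem Loc.unique {x : M} {e : Adm R M l} (hs : Strict (R := R) e.1) {i i' : Fin l} {c c' : Rˣ}
    (h : Loc x e.1 i c) (h' : Loc x e.1 i' c') : i = i' ∧ residue R (c : R) = residue R (c' : R) := by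
  have hi : i = i' := by
    apply Fin.ext
    rcases lt_trichotomy (i : ℕ) i' with hlt | he | hlt
    · exact absurd (spanBefore_mono _ hlt h.mem_succ) h'.1
    · exact he
    · exact absurd (spanBefore_mono _ hlt h'.mem_succ) h.1
  subst hi
  refine ⟨rfl, ?_⟩
  have hd : ((c' : R) - c) • e.1 i ∈ spanBefore R M e.1 i := by
    have := Submodule.sub_mem _ h.2 h'.2
    rwa [sub_sub_sub_cancel_left, ← sub_smul] at this
  have h0 := (residue_eq_zero_iff _).2 (strict_mem_of_sup hs i (e.2 i) hd)
  rw [map_sub, sub_eq_zero] at h0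
  exact h0.symm

theorem Loc.exists {x : M} (hx : x ≠ 0) (e : Adm R M l)
    (he : Submodule.span R (Set.range e.1) = ⊤) : ∃ (i : _) (c : Rˣ), Loc x e.1 i c := by
  classical
  rcases Nat.eq_zero_or_pos l with rfl | hl
  · rw [← spanBefore_last, spanBefore_zero] at he
    exact absurd ((Submodule.mem_bot R).1 (he ▸ (Submodule.mem_top : x ∈ ⊤))) hx
  have hex : ∃ n, x ∈ spanBefore R M e.1 (n + 1) := ⟨l - 1, by
    rw [Nat.sub_add_cancel hl, spanBefore_last, he]; trivial⟩
  have hnl : Nat.find hex < l := by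
    have : Nat.find hex ≤ l - 1 := Nat.find_le (by rw [Nat.sub_add_cancel hl, spanBefore_last, he]; trivial)
    omega
  set i : Fin l := ⟨Nat.find hex, hnl⟩
  have hn : x ∉ spanBefore R M e.1 i := by
    intro hc
    by_cases h0 : Nat.find hex = 0
    · rw [show (i : ℕ) = 0 from h0, spanBefore_zero] at hc
      exact hx ((Submodule.mem_bot R).1 hc)
    · exact Nat.find_min hex (m := Nat.find hex - 1) (by omega)
        (by rwa [Nat.sub_add_cancel (by omega)])
  have h1 : x ∈ spanBefore R M e.1 ((i : ℕ) + 1) := Nat.find_spec hex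
  rw [spanBefore_succ] at h1
  obtain ⟨c, hc⟩ := exists_unit_sub_mem (e.2 i) hn h1
  exact ⟨i, c, hn, hc⟩

/-! ### removing the located entry -/

variable (x : M)

/-- the tuple in `M ⧸ R∙x` with entry `i` removed -/
def bar (e : Fin (l + 1) → M) (i : Fin (l + 1)) : Fin l → M ⧸ (R ∙ x) :=
  fun j => (R ∙ x).mkQ (e (i.succAbove j))

variable {x}

theorem succAbove_val (i : Fin (l + 1)) (j : Fin l) :
    ((i.succAbove j : Fin (l + 1)) : ℕ) = if (j : ℕ) < (i : ℕ) then (j : ℕ) else (j : ℕ) + 1 := by
  split_ifs with h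
  · rw [Fin.succAbove_of_castSucc_lt]; · rfl
    exact h
  · rw [Fin.succAbove_of_le_castSucc]; · rfl
    exact Nat.le_of_not_lt h

theorem map_spanBefore_succ_loc {e : Fin (l + 1) → M} {i : Fin (l + 1)} {c : Rˣ}
    (h : Loc x e i c) :
    (spanBefore R M e ((i : ℕ) + 1)).map (R ∙ x).mkQ = (spanBefore R M e i).map (R ∙ x).mkQ := by
  refine le_antisymm ?_ (Submodule.map_mono (spanBefore_mono _ (by omega)))
  rw [spanBefore_succ, Submodule.map_sup, Submodule.map_span, Set.image_singleton, sup_le_iff,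
    Submodule.span_singleton_le_iff_mem]
  refine ⟨le_rfl, -((c⁻¹ : Rˣ) : R) • (x - (c : R) • e i), Submodule.smul_mem _ _ h.2, ?_⟩
  have hx0 : (R ∙ x).mkQ x = 0 := (Submodule.Quotient.mk_eq_zero _).2 (Submodule.mem_span_singleton_self _)
  rw [map_smul, map_sub, hx0, zero_sub, map_smul, neg_smul_neg, smul_smul, Units.inv_mul, one_smul]

theorem spanBefore_bar {e : Fin (l + 1) → M} {i : Fin (l + 1)} {c : Rˣ} (h : Loc x e i c) :
    ∀ {n : ℕ}, n ≤ l → spanBefore R (M ⧸ (R ∙ x)) (bar (R := R) x e i) n =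
      (spanBefore R M e (if n < (i : ℕ) then n else n + 1)).map (R ∙ x).mkQ := by
  have key := map_spanBefore_succ_loc h
  intro n hn
  induction n with
  | zero =>
    split_ifs with hi
    · simp [spanBefore_zero]
    · rw [show (0 : ℕ) + 1 = (i : ℕ) + 1 by omega, key, show (i : ℕ) = 0 by omega]
      simp [spanBefore_zero]
  | succ n ih =>
    rw [spanBefore_succ (bar (R := R) x e i) ⟨n, hn⟩]
    simp only [ih (by omega), bar]
    rw [← Set.image_singleton, ← Submodule.map_span, ← Submodule.map_sup]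
    have hv := succAbove_val i ⟨n, hn⟩
    simp only at hv
    rw [← hv, ← spanBefore_succ e, hv]
    split_ifs <;> first | rfl | omega | skip
    rw [show (n : ℕ) + 1 + 1 = (i : ℕ) + 1 by omega, key, show (i : ℕ) = n + 1 by omega]

theorem spanBefore_bar_fin {e : Fin (l + 1) → M} {i : Fin (l + 1)} {c : Rˣ} (h : Loc x e i c)
    (j : Fin l) : spanBefore R (M ⧸ (R ∙ x)) (bar (R := R) x e i) j =
      (spanBefore R M e (i.succAbove j : Fin (l + 1))).map (R ∙ x).mkQ := by
  rw [spanBefore_bar h j.2.le, succAbove_val]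

theorem isAdmissible_bar (e : Adm R M (l + 1)) {i : Fin (l + 1)} {c : Rˣ} (h : Loc x e.1 i c) :
    IsAdmissible R (M ⧸ (R ∙ x)) (bar (R := R) x e.1 i) := fun j r hr => by
  rw [spanBefore_bar_fin h, bar, ← map_smul]
  exact Submodule.mem_map_of_mem (e.2 _ r hr)

theorem span_bar_eq_top {e : Fin (l + 1) → M} {i : Fin (l + 1)} {c : Rˣ} (h : Loc x e i c)
    (he : Submodule.span R (Set.range e) = ⊤) :
    Submodule.span R (Set.range (bar (R := R) x e i)) = ⊤ := by
  rw [← spanBefore_last, spanBefore_bar h le_rfl, if_neg (by omega), spanBefore_last, he,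
    Submodule.map_top, Submodule.range_mkQ]

/-! ### the functional -/

/-- a nonvanishing invariant of generating admissible tuples compatible with all relations -/
structure Fn (R : Type u) [CommRing R] [IsLocalRing R] (M : Type v) [AddCommGroup M] [Module R M]
    (l : ℕ) where
  φ : Adm R M l → ResidueField R
  zero : ∀ e, Submodule.span R (Set.range e.1) ≠ ⊤ → φ e = 0
  ne_zero : ∀ e, Submodule.span R (Set.range e.1) = ⊤ → φ e ≠ 0
  modify : ∀ (e e' : Adm R M l) (a : Fin l) (c : Rˣ), (∀ j, j ≠ a → e.1 j = e'.1 j) →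
      e.1 a - (c : R) • e'.1 a ∈ spanBefore R M e.1 a → φ e = residue R (c : R) * φ e'
  swap : ∀ (e e' : Adm R M l) (a b : Fin l), (b : ℕ) + 1 = a →
      (∀ r ∈ maximalIdeal R, r • e.1 a ∈ spanBefore R M e.1 b) →
      e'.1 = e.1 ∘ Equiv.swap a b → φ e = -φ e'

open Classical in
/-- the candidate functional built from one on `M ⧸ R∙x` -/
noncomputable def liftFn (x : M) (F : Fn R (M ⧸ (R ∙ x)) l) (e : Adm R M (l + 1)) : ResidueField R :=
  if h : Submodule.span R (Set.range e.1) = ⊤ ∧ ∃ (i : _) (c : Rˣ), Loc x e.1 i c then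
    (-1) ^ (h.2.choose : ℕ) * (residue R (h.2.choose_spec.choose : R))⁻¹ *
      F.φ ⟨bar (R := R) x e.1 h.2.choose, isAdmissible_bar e h.2.choose_spec.choose_spec⟩
  else 0

theorem liftFn_eq (F : Fn R (M ⧸ (R ∙ x)) l) (hl : Module.length R M = ((l + 1 : ℕ) : ℕ∞))
    (e : Adm R M (l + 1)) (he : Submodule.span R (Set.range e.1) = ⊤) {i : Fin (l + 1)} {c : Rˣ}
    (h : Loc x e.1 i c) :
    liftFn x F e = (-1) ^ (i : ℕ) * (residue R (c : R))⁻¹ *
      F.φ ⟨bar (R := R) x e.1 i, isAdmissible_bar e h⟩ := by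
  have H : Submodule.span R (Set.range e.1) = ⊤ ∧ ∃ (i : _) (c : Rˣ), Loc x e.1 i c := ⟨he, i, c, h⟩
  rw [liftFn, dif_pos H]
  obtain ⟨h1, h2⟩ := Loc.unique ((span_eq_top_iff e hl).1 he) H.2.choose_spec.choose_spec h
  rw [h2]
  simp only [h1]

theorem bar_update_self {e e' : Fin (l + 1) → M} {i : Fin (l + 1)} (h : ∀ j, j ≠ i → e j = e' j) :
    bar (R := R) x e i = bar (R := R) x e' i :=
  funext fun j => by simp only [bar, h _ (Fin.succAbove_ne i j)]

theorem residue_ne_zero_units (c : Rˣ) : residue R (c : R) ≠ 0 := (IsUnit.map _ c.isUnit).ne_zero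

theorem liftFn_modify (hx : x ≠ 0) (F : Fn R (M ⧸ (R ∙ x)) l)
    (hl : Module.length R M = ((l + 1 : ℕ) : ℕ∞)) (e e' : Adm R M (l + 1)) (a : Fin (l + 1)) (c' : Rˣ)
    (hne : ∀ j, j ≠ a → e.1 j = e'.1 j) (h : e.1 a - (c' : R) • e'.1 a ∈ spanBefore R M e.1 a) :
    liftFn x F e = residue R (c' : R) * liftFn x F e' := by
  have hS := spanBefore_eq_of_modify a c' hne h
  have hspan : Submodule.span R (Set.range e.1) = Submodule.span R (Set.range e'.1) := by
    rw [← spanBefore_last, ← spanBefore_last, hS]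
  by_cases he : Submodule.span R (Set.range e.1) = ⊤
  swap
  · rw [liftFn, dif_neg (fun H => he H.1), liftFn, dif_neg (fun H => he (hspan.trans H.1)), mul_zero]
  obtain ⟨i, c, hL⟩ := Loc.exists hx e he
  rw [liftFn_eq F hl e he hL]
  by_cases hai : a = i
  · subst hai
    have hL' : Loc x e'.1 a (c * c') := by
      refine ⟨by rw [← hS]; exact hL.1, ?_⟩
      rw [← hS]
      have h3 : x - ((c * c' : Rˣ) : R) • e'.1 a =
          (x - (c : R) • e.1 a) + (c : R) • (e.1 a - (c' : R) • e'.1 a) := by
        rw [smul_sub, smul_smul, Units.val_mul]; abel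
      rw [h3]
      exact Submodule.add_mem _ hL.2 (Submodule.smul_mem _ _ h)
    rw [liftFn_eq F hl e' (hspan.symm.trans he) hL', Units.val_mul, map_mul, mul_inv]
    simp only [bar_update_self (x := x) (R := R) hne]
    rw [show residue R (c' : R) * ((-1) ^ (a : ℕ) * ((residue R (c : R))⁻¹ * (residue R (c' : R))⁻¹) *
        F.φ ⟨bar (R := R) x e'.1 a, isAdmissible_bar e' hL'⟩) =
      (residue R (c' : R) * (residue R (c' : R))⁻¹) * ((-1) ^ (a : ℕ) * (residue R (c : R))⁻¹ *
        F.φ ⟨bar (R := R) x e'.1 a, isAdmissible_bar e' hL'⟩) by ring,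
      mul_inv_cancel₀ (residue_ne_zero_units c'), one_mul]
  · have hi : e.1 i = e'.1 i := hne i (Ne.symm hai)
    have hL' : Loc x e'.1 i c := ⟨by rw [← hS]; exact hL.1, by rw [← hS, ← hi]; exact hL.2⟩
    rw [liftFn_eq F hl e' (hspan.symm.trans he) hL']
    obtain ⟨a', ha'⟩ := Fin.exists_succAbove_eq hai
    rw [F.modify ⟨_, isAdmissible_bar e hL⟩ ⟨_, isAdmissible_bar e' hL'⟩ a' c'
      (fun j hj => by
        simp only [bar]
        rw [hne _ (fun hh => hj (Fin.succAbove_right_injective (hh.trans ha'.symm)))])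
      (by
        simp only [bar, ha']
        rw [spanBefore_bar_fin hL, ha', ← map_smul, ← map_sub]
        exact Submodule.mem_map_of_mem h)]
    ring

theorem swap_moved {e : Fin (l + 1) → M} {a b : Fin (l + 1)} (hab : (b : ℕ) + 1 = a) :
    bar (R := R) x (e ∘ Equiv.swap a b) a = bar (R := R) x e b := by
  funext j
  simp only [bar, Function.comp_apply]
  congr 2
  apply Fin.ext
  have h1 := succAbove_val a j
  have h2 := succAbove_val b j
  rw [Equiv.swap_apply_def]
  simp only [Fin.ext_iff]
  split_ifs at * <;> omega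

theorem liftFn_swap (hx : x ≠ 0) (F : Fn R (M ⧸ (R ∙ x)) l)
    (hl : Module.length R M = ((l + 1 : ℕ) : ℕ∞)) (e e' : Adm R M (l + 1)) (a b : Fin (l + 1))
    (hab : (b : ℕ) + 1 = a) (h : ∀ r ∈ maximalIdeal R, r • e.1 a ∈ spanBefore R M e.1 b)
    (he' : e'.1 = e.1 ∘ Equiv.swap a b) :
    liftFn x F e = -liftFn x F e' := by
  have hspan : Submodule.span R (Set.range e'.1) = Submodule.span R (Set.range e.1) := by
    simp [he', Set.range_comp]
  by_cases he : Submodule.span R (Set.range e.1) = ⊤
  swap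
  · rw [liftFn, dif_neg (fun H => he H.1), liftFn, dif_neg (fun H => he (hspan.symm.trans H.1)), neg_zero]
  have he2 := hspan.trans he
  have hs := (span_eq_top_iff e hl).1 he
  have hs' := (span_eq_top_iff e' hl).1 he2
  have hS : ∀ n, n ≠ (a : ℕ) → spanBefore R M e'.1 n = spanBefore R M e.1 n := fun n hn => by
    rw [he']; exact spanBefore_comp_swap e.1 hab hn
  have hea : e'.1 a = e.1 b := by simp [he']
  have heb : e'.1 b = e.1 a := by simp [he']
  have hSa : spanBefore R M e'.1 a = spanBefore R M e.1 b ⊔ R ∙ e.1 a := by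
    rw [← hab, spanBefore_succ, heb, hS b (by omega)]
  have hSa0 : spanBefore R M e.1 a = spanBefore R M e.1 b ⊔ R ∙ e.1 b := by
    rw [← hab, spanBefore_succ]
  obtain ⟨i, c, hL⟩ := Loc.exists hx e he
  rw [liftFn_eq F hl e he hL]
  by_cases hib : i = b
  · subst hib
    have hL' : Loc x e'.1 a c := by
      refine ⟨fun hc => hs' a ?_, ?_⟩
      · rw [hea, hSa]
        rw [hSa] at hc
        have : e.1 i = -((c⁻¹ : Rˣ) : R) • (x - (c : R) • e.1 i) + ((c⁻¹ : Rˣ) : R) • x := by
          rw [neg_smul, smul_sub, smul_smul, Units.inv_mul, one_smul]; abel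
        rw [this]
        exact Submodule.add_mem _ (Submodule.smul_mem _ _ (Submodule.mem_sup_left hL.2))
          (Submodule.smul_mem _ _ hc)
      · rw [hea, hSa]; exact Submodule.mem_sup_left hL.2
    rw [liftFn_eq F hl e' he2 hL', ← hab, pow_succ]
    have hb : bar (R := R) x e'.1 a = bar (R := R) x e.1 i := by rw [he', swap_moved hab]
    simp only [hb]
    ring
  by_cases hia : i = a
  · subst hia
    obtain ⟨r, hr⟩ := exists_sub_mem_of_mem_sup (N := spanBefore R M e.1 b) (y := e.1 b)
      (x := x - (c : R) • e.1 i) (by rw [← hSa0]; exact hL.2)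
    by_cases hru : IsUnit r
    swap
    · -- `x` lies in the span before `b` plus the entry `a`
      have hx' : x - (c : R) • e.1 i ∈ spanBefore R M e.1 b := by
        simpa using Submodule.add_mem _ hr (e.2 b r hru)
      have hL' : Loc x e'.1 b c := ⟨by
        rw [hS b (by omega)]; exact fun hc => hL.1 (spanBefore_mono _ (by omega) hc), by
        rw [hS b (by omega), heb]; exact hx'⟩
      rw [liftFn_eq F hl e' he2 hL', ← hab, pow_succ]
      have hb : bar (R := R) x e'.1 b = bar (R := R) x e.1 i := by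
        rw [← swap_moved (x := x) (e := e'.1) (R := R) hab, he']
        congr 1
        funext j
        simp [Equiv.swap_apply_self]
      simp only [hb]
      ring
    set r' : Rˣ := hru.unit
    have hr' : (r' : R) = r := hru.unit_spec
    have hL' : Loc x e'.1 i r' := by
      refine ⟨fun hc => hs i ?_, ?_⟩
      · rw [hSa] at hc
        obtain ⟨t, ht⟩ := exists_sub_mem_of_mem_sup hc
        have h2 : ((t - c : R) • e.1 i) - r • e.1 b ∈ spanBefore R M e.1 b := by
          have := Submodule.sub_mem _ hr ht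
          convert this using 1
          rw [sub_smul]; abel
        refine absurd ?_ (hs b)
        exfalso
        by_cases ht' : IsUnit (t - (c : R))
        · apply hs i
          rw [hSa0]
          have h3 : e.1 i = (↑ht'.unit⁻¹ : R) • ((t - c : R) • e.1 i - r • e.1 b) + ((↑ht'.unit⁻¹ : R) * r) • e.1 b := by
            rw [smul_sub, smul_smul, smul_smul, IsUnit.val_inv_mul, one_smul, sub_add_cancel]
          rw [h3]
          exact Submodule.add_mem_sup (Submodule.smul_mem _ _ h2)
            (Submodule.smul_mem _ _ (Submodule.mem_span_singleton_self _))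
        · apply hs b
          have h3 : r • e.1 b ∈ spanBefore R M e.1 b := by
            have := Submodule.sub_mem _ (h _ ht') h2
            simpa using this
          simpa [smul_smul] using Submodule.smul_mem _ (↑hru.unit⁻¹ : R) h3
      · rw [hea, hr', hSa]
        have h3 : x - r • e.1 b = (x - (c : R) • e.1 i - r • e.1 b) + (c : R) • e.1 i := by abel
        rw [h3]
        exact Submodule.add_mem_sup hr (Submodule.smul_mem _ _ (Submodule.mem_span_singleton_self _))
    rw [liftFn_eq F hl e' he2 hL']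
    obtain ⟨b', hb'⟩ := Fin.exists_succAbove_eq (Ne.symm hib)
    have hne : ∀ j, j ≠ b' → bar (R := R) x e.1 i j = bar (R := R) x e'.1 i j := fun j hj => by
      simp only [bar, he', Function.comp_apply]
      rw [Equiv.swap_apply_of_ne_of_ne (Fin.succAbove_ne i j)
        (fun hh => hj (Fin.succAbove_right_injective (hh.trans hb'.symm)))]
    have hm : bar (R := R) x e.1 i b' - ((-(c * r'⁻¹) : Rˣ) : R) • bar (R := R) x e'.1 i b' ∈
        spanBefore R _ (bar (R := R) x e.1 i) b' := by
      rw [spanBefore_bar_fin hL, hb']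
      simp only [bar, hb', heb]
      refine ⟨-((r'⁻¹ : Rˣ) : R) • (x - (c : R) • e.1 i - r • e.1 b), Submodule.smul_mem _ _ hr, ?_⟩
      have hx0 : (R ∙ x).mkQ x = 0 :=
        (Submodule.Quotient.mk_eq_zero _).2 (Submodule.mem_span_singleton_self _)
      rw [map_smul, map_sub, map_sub, map_smul, map_smul, hx0, ← hr']
      simp only [smul_sub, smul_zero, smul_smul, neg_mul, Units.val_neg, Units.val_mul,
        Units.inv_mul, neg_smul, one_smul]
      rw [mul_comm ((r'⁻¹ : Rˣ) : R) (c : R)]
      abel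
    rw [F.modify ⟨_, isAdmissible_bar e hL⟩ ⟨_, isAdmissible_bar e' hL'⟩ b' (-(c * r'⁻¹)) hne hm,
      Units.val_neg, map_neg, Units.val_mul, map_mul, map_units_inv]
    field_simp [residue_ne_zero_units c, residue_ne_zero_units r']
  · have hi : e'.1 i = e.1 i := by simp [he', Equiv.swap_apply_of_ne_of_ne hia hib]
    have hL' : Loc x e'.1 i c := by
      rw [Loc, hi, hS i (fun hh => hia (Fin.ext hh))]; exact hL
    rw [liftFn_eq F hl e' he2 hL']
    obtain ⟨a', ha'⟩ := Fin.exists_succAbove_eq (Ne.symm hia)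
    obtain ⟨b', hb'⟩ := Fin.exists_succAbove_eq (Ne.symm hib)
    have hab' : (b' : ℕ) + 1 = a' := by
      have h1 := succAbove_val i a'
      have h2 := succAbove_val i b'
      rw [ha'] at h1; rw [hb'] at h2
      have h3 : (i : ℕ) ≠ a := fun hh => hia (Fin.ext hh)
      have h4 : (i : ℕ) ≠ b := fun hh => hib (Fin.ext hh)
      split_ifs at h1 h2 <;> omega
    rw [F.swap ⟨_, isAdmissible_bar e hL⟩ ⟨_, isAdmissible_bar e' hL'⟩ a' b' hab'
      (fun r hr => by
        show r • bar (R := R) x e.1 i a' ∈ spanBefore R _ (bar (R := R) x e.1 i) b'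
        rw [spanBefore_bar_fin hL, hb', bar, ha', ← map_smul]
        exact Submodule.mem_map_of_mem (h r hr))
      (by
        funext j
        simp only [bar, he', Function.comp_apply]
        rw [Fin.succAbove_right_injective.map_swap, ha', hb'])]
    ring

theorem exists_fn_and_gen : ∀ (l : ℕ) (M : Type v) [AddCommGroup M] [Module R M],
    Module.length R M = (l : ℕ∞) →
    Nonempty (Fn R M l) ∧ ∃ e : Adm R M l, Submodule.span R (Set.range e.1) = ⊤ := by
  intro l
  induction l with
  | zero =>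
    intro M _ _ hl
    have : Subsingleton M := Module.length_eq_zero_iff.1 (by simpa using hl)
    have ht : ∀ e : Fin 0 → M, Submodule.span R (Set.range e) = ⊤ := fun _ => Subsingleton.elim _ _
    exact ⟨⟨⟨fun _ => 1, fun e he => absurd (ht _) he, fun _ _ => one_ne_zero,
      fun _ _ a => a.elim0, fun _ _ a => a.elim0⟩⟩, ⟨Fin.elim0, fun i => i.elim0⟩, ht _⟩
  | succ l ih =>
    intro M _ _ hl
    have hfl : IsFiniteLength R M := by
      rw [← Module.length_ne_top_iff, hl]; exact ENat.coe_ne_top _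
    obtain ⟨-, hart⟩ := isFiniteLength_iff_isNoetherian_isArtinian.1 hfl
    haveI : Nontrivial M := by
      rw [← not_subsingleton_iff_nontrivial, ← Module.length_eq_zero_iff (R := R), hl]
      simp
    obtain ⟨x, hx, hkill⟩ := exists_socle (R := R) (M := M)
    have hlQ : Module.length R (M ⧸ (R ∙ x)) = (l : ℕ∞) := by
      have h2 := Module.length_eq_add_of_exact (R ∙ x).subtype (R ∙ x).mkQ (R ∙ x).injective_subtype
        (R ∙ x).mkQ_surjective (LinearMap.exact_subtype_mkQ _)
      rw [hl, length_span_singleton_of_killed hx hkill] at h2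
      generalize Module.length R (M ⧸ (R ∙ x)) = t at h2
      induction t using ENat.recTopCoe with
      | top => simp at h2
      | coe k => norm_cast at h2 ⊢; omega
    obtain ⟨⟨F⟩, eQ, heQ⟩ := ih (M ⧸ (R ∙ x)) hlQ
    refine ⟨⟨⟨liftFn x F, fun e he => dif_neg fun H => he H.1, fun e he => ?_,
      liftFn_modify hx F hl, liftFn_swap hx F hl⟩⟩, ?_⟩
    · obtain ⟨i, c, hL⟩ := Loc.exists hx e he
      rw [liftFn_eq F hl e he hL]
      exact mul_ne_zero (mul_ne_zero (pow_ne_zero _ (neg_ne_zero.2 one_ne_zero))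
        (inv_ne_zero (residue_ne_zero_units c))) (F.ne_zero _ (span_bar_eq_top hL he))
    · choose g hg using fun j => (R ∙ x).mkQ_surjective (eQ.1 j)
      set f : Fin (l + 1) → M := Fin.cons x g
      have hker : ∀ n : ℕ, 0 < n → R ∙ x ≤ spanBefore R M f n := fun n hn =>
        (Submodule.span_singleton_le_iff_mem _ _).2 (Submodule.subset_span ⟨0, hn, rfl⟩)
      have hmap : ∀ n : ℕ, spanBefore R (M ⧸ (R ∙ x)) eQ.1 n =
          (spanBefore R M f (n + 1)).map (R ∙ x).mkQ := by
        intro n
        simp only [spanBefore]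
        rw [Submodule.map_span]
        have hx0 : (R ∙ x).mkQ x = 0 :=
          (Submodule.Quotient.mk_eq_zero _).2 (Submodule.mem_span_singleton_self _)
        refine le_antisymm (Submodule.span_mono ?_) (Submodule.span_le.2 ?_)
        · rintro _ ⟨j, hj, rfl⟩
          exact ⟨g j, ⟨j.succ, by simp at hj ⊢; exact hj, by simp [f]⟩, hg j⟩
        · rintro _ ⟨_, ⟨j, hj, rfl⟩, rfl⟩
          induction j using Fin.cases with
          | zero => simp [f, hx0]
          | succ j => exact Submodule.subset_span ⟨j, by simp at hj; exact hj, by simp [f, hg]⟩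
      refine ⟨⟨f, fun i r hr => ?_⟩, ?_⟩
      · induction i using Fin.cases with
        | zero => simp [f, hkill r hr]
        | succ j =>
          have h1 := eQ.2 j r hr
          rw [← hg, ← map_smul, hmap] at h1
          simp only [f, Fin.cons_succ, Fin.val_succ]
          have h2 : r • g j ∈ ((spanBefore R M f ((j : ℕ) + 1)).map (R ∙ x).mkQ).comap (R ∙ x).mkQ := h1
          rwa [Submodule.comap_map_mkQ, sup_eq_right.2 (hker _ (by omega))] at h2
      · rw [← spanBefore_last, ← top_le_iff]
        intro m _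
        have h2 : m ∈ ((spanBefore R M f (l + 1)).map (R ∙ x).mkQ).comap (R ∙ x).mkQ := by
          rw [← hmap, spanBefore_last, heQ]; trivial
        rwa [Submodule.comap_map_mkQ, sup_eq_right.2 (hker _ (by omega))] at h2

theorem exists_generating (hl : Module.length R M = (l : ℕ∞)) :
    ∃ e : Adm R M l, Submodule.span R (Set.range e.1) = ⊤ := (exists_fn_and_gen l M hl).2

theorem q_ne_zero_of_span_eq_top (hl : Module.length R M = (l : ℕ∞)) (e : Adm R M l)
    (he : Submodule.span R (Set.range e.1) = ⊤) : q R e ≠ 0 := by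
  obtain ⟨F⟩ := (exists_fn_and_gen l M hl).1
  let Φ : Free R M l →ₗ[ResidueField R] ResidueField R := Finsupp.linearCombination _ F.φ
  have hsym : ∀ e, Φ (sym R M e) = F.φ e := fun e => by simp [Φ, sym]
  have hle : Submodule.span (ResidueField R) (relSet R M l) ≤ LinearMap.ker Φ := by
    rw [Submodule.span_le]
    rintro _ ((⟨e, a, h, rfl⟩ | ⟨e, e', a, c, hne, h, rfl⟩) | ⟨e, e', a, b, hab, h, he', rfl⟩)
    · simp only [SetLike.mem_coe, LinearMap.mem_ker, hsym]
      exact F.zero e fun he => (span_eq_top_iff e hl).1 he a h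
    · simp only [SetLike.mem_coe, LinearMap.mem_ker, map_sub, map_smul, hsym, smul_eq_mul]
      rw [F.modify e e' a c hne h, sub_self]
    · simp only [SetLike.mem_coe, LinearMap.mem_ker, map_add, hsym]
      rw [F.swap e e' a b hab h he', neg_add_cancel]
  intro h0
  rw [q, Submodule.Quotient.mk_eq_zero] at h0
  exact F.ne_zero e he (by simpa [hsym] using hle h0)

end GrothLib.CycDetL
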