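import Groth.Prelude.Def_CycDet
import Mathlib.RingTheory.SimpleModule.Basic
import Mathlib.RingTheory.Artinian.Module
import Mathlib.LinearAlgebra.Dimension.FreeAndStrongRankCondition
import Mathlib.LinearAlgebra.Basis.VectorSpace
import Mathlib.LinearAlgebra.Finsupp.VectorSpace
import Mathlib.Tactic.Ring
import Mathlib.Tactic.Abel
import Mathlib.Algebra.Group.Fin.Basic

universe u v

namespace GrothLib.CycDetL

open IsLocalRing CycDet

variable {R : Type u} [CommRing R] [IsLocalRing R] {M : Type v} [AddCommGroup M] [Module R M]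

section
variable {l : ℕ}

theorem spanBefore_zero (e : Fin l → M) : spanBefore R M e 0 = ⊥ := by
  simp [spanBefore]

theorem spanBefore_mono (e : Fin l → M) {i j : ℕ} (h : i ≤ j) :
    spanBefore R M e i ≤ spanBefore R M e j :=
  Submodule.span_mono (Set.image_mono fun x (hx : (x : ℕ) < i) => lt_of_lt_of_le hx h)

theorem spanBefore_succ (e : Fin l → M) (i : Fin l) :
    spanBefore R M e ((i : ℕ) + 1) = spanBefore R M e i ⊔ R ∙ e i := by
  simp only [spanBefore]
  rw [← Submodule.span_union, ← Set.image_singleton, ← Set.image_union]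
  congr 2
  ext x
  simp only [Set.mem_ofPred_eq, Set.mem_union, Set.mem_singleton_iff, Fin.ext_iff]
  omega

theorem spanBefore_last (e : Fin l → M) : spanBefore R M e l = Submodule.span R (Set.range e) := by
  simp [spanBefore, ← Set.image_univ]

theorem mem_spanBefore_succ_self (e : Fin l → M) (i : Fin l) : e i ∈ spanBefore R M e ((i : ℕ) + 1) := by
  rw [spanBefore_succ]
  exact Submodule.mem_sup_right (Submodule.mem_span_singleton_self _)

theorem spanBefore_congr {e e' : Fin l → M} {n : ℕ} (h : ∀ j : Fin l, (j : ℕ) < n → e j = e' j) :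
    spanBefore R M e n = spanBefore R M e' n := by
  simp only [spanBefore]
  congr 1
  exact Set.image_congr h

theorem spanBefore_congr_from {e e' : Fin l → M} {n m : ℕ} (hn : spanBefore R M e n = spanBefore R M e' n)
    (h : ∀ j : Fin l, n ≤ (j : ℕ) → e j = e' j) (hm : n ≤ m) :
    spanBefore R M e m = spanBefore R M e' m := by
  induction m, hm using Nat.le_induction with
  | base => exact hn
  | succ m hm ih =>
    by_cases hml : m < l
    · rw [spanBefore_succ e ⟨m, hml⟩, spanBefore_succ e' ⟨m, hml⟩, h ⟨m, hml⟩ hm]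
      simp [ih]
    · have h1 : ∀ f : Fin l → M, spanBefore R M f (m + 1) = spanBefore R M f m := fun f => by
        simp only [spanBefore]
        congr 2
        ext x
        simp only [Set.mem_ofPred_eq]
        have := x.2
        omega
      rw [h1, h1, ih]

theorem exists_sub_mem_of_mem_sup {N : Submodule R M} {x y : M} (h : x ∈ N ⊔ R ∙ y) :
    ∃ r : R, x - r • y ∈ N := by
  obtain ⟨a, ha, b, hb, rfl⟩ := Submodule.mem_sup.1 h
  obtain ⟨r, rfl⟩ := Submodule.mem_span_singleton.1 hb
  exact ⟨r, by simpa using ha⟩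

theorem exists_unit_sub_mem {N : Submodule R M} {x y : M} (hy : ∀ r ∈ maximalIdeal R, r • y ∈ N)
    (hx : x ∉ N) (h : x ∈ N ⊔ R ∙ y) : ∃ c : Rˣ, x - (c : R) • y ∈ N := by
  obtain ⟨r, hr⟩ := exists_sub_mem_of_mem_sup h
  by_cases hu : IsUnit r
  · exact ⟨hu.unit, hr⟩
  · exact absurd (by simpa using N.add_mem hr (hy r hu)) hx

theorem sup_span_eq_of_unit_sub_mem {N : Submodule R M} {x y : M} (c : Rˣ)
    (h : x - (c : R) • y ∈ N) : N ⊔ R ∙ x = N ⊔ R ∙ y := by
  apply le_antisymm
  · refine sup_le le_sup_left ((Submodule.span_singleton_le_iff_mem _ _).2 ?_)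
    rw [← sub_add_cancel x ((c : R) • y)]
    exact Submodule.add_mem_sup h (Submodule.smul_mem _ _ (Submodule.mem_span_singleton_self _))
  · refine sup_le le_sup_left ((Submodule.span_singleton_le_iff_mem _ _).2 ?_)
    have : y = -((c⁻¹ : Rˣ) : R) • (x - (c : R) • y) + ((c⁻¹ : Rˣ) : R) • x := by
      rw [neg_smul, smul_sub, smul_smul, Units.inv_mul, one_smul]; abel
    rw [this]
    exact Submodule.add_mem_sup (N.smul_mem _ h) (Submodule.smul_mem _ _ (Submodule.mem_span_singleton_self _))

/-- Spans are unchanged by relation (b). -/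
theorem spanBefore_eq_of_modify {e e' : Fin l → M} (a : Fin l) (c : Rˣ)
    (hne : ∀ j, j ≠ a → e j = e' j) (h : e a - (c : R) • e' a ∈ spanBefore R M e a) (n : ℕ) :
    spanBefore R M e n = spanBefore R M e' n := by
  have h0 : ∀ m : ℕ, m ≤ (a : ℕ) → spanBefore R M e m = spanBefore R M e' m := fun m hm =>
    spanBefore_congr fun j hj => hne j (by rintro rfl; omega)
  rcases le_or_gt n (a : ℕ) with hn | hn
  · exact h0 n hn
  · refine spanBefore_congr_from (n := (a : ℕ) + 1) ?_ (fun j hj => hne j (by rintro rfl; omega)) hn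
    rw [spanBefore_succ, spanBefore_succ, ← h0 _ le_rfl]
    exact sup_span_eq_of_unit_sub_mem c h

/-- Spans are unchanged by an adjacent swap, except in the middle. -/
theorem spanBefore_comp_swap (e : Fin l → M) {a b : Fin l} (hab : (b : ℕ) + 1 = a) {n : ℕ}
    (hn : n ≠ (a : ℕ)) : spanBefore R M (e ∘ Equiv.swap a b) n = spanBefore R M e n := by
  have h0 : ∀ m : ℕ, m ≤ (b : ℕ) → spanBefore R M (e ∘ Equiv.swap a b) m = spanBefore R M e m :=
    fun m hm => spanBefore_congr fun j hj => by
      simp only [Function.comp_apply]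
      rw [Equiv.swap_apply_of_ne_of_ne] <;> rintro rfl <;> omega
  rcases le_or_gt n (b : ℕ) with h | h
  · exact h0 n h
  · refine spanBefore_congr_from (n := (a : ℕ) + 1) ?_ (fun j hj => ?_) (by omega)
    · have h1 : ∀ f : Fin l → M, spanBefore R M f ((a : ℕ) + 1) = spanBefore R M f b ⊔ R ∙ f b ⊔ R ∙ f a :=
        fun f => by rw [spanBefore_succ f a, ← hab, spanBefore_succ f b]
      rw [h1, h1, h0 _ le_rfl]
      simp [sup_right_comm]
    · simp only [Function.comp_apply]
      rw [Equiv.swap_apply_of_ne_of_ne] <;> rintro rfl <;> omega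

theorem isAdmissible_swap (e : Adm R M l) {a b : Fin l} (hab : (b : ℕ) + 1 = a)
    (h : ∀ r ∈ maximalIdeal R, r • e.1 a ∈ spanBefore R M e.1 b) :
    IsAdmissible R M (e.1 ∘ Equiv.swap a b) := by
  intro i r hr
  by_cases hib : i = b
  · subst hib
    rw [spanBefore_comp_swap e.1 hab (by omega)]
    simpa using h r hr
  by_cases hia : i = a
  · subst hia
    simp only [Function.comp_apply, Equiv.swap_apply_left]
    refine spanBefore_mono _ (show (b : ℕ) ≤ (i : ℕ) by omega) ?_
    rw [spanBefore_comp_swap e.1 hab (by omega)]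
    exact e.2 b r hr
  · rw [spanBefore_comp_swap e.1 hab (fun h => hia (Fin.ext h))]
    simpa [Equiv.swap_apply_of_ne_of_ne hia hib] using e.2 i r hr

/-- every entry is outside the span of the earlier ones -/
def Strict (e : Fin l → M) : Prop := ∀ i : Fin l, e i ∉ spanBefore R M e i

variable (R) in
/-- class of a symbol -/
noncomputable def q (e : Adm R M l) : DetOfLen R M l := Submodule.Quotient.mk (sym R M e)

theorem symbol_eq (e : Adm R M (Module.length R M).toNat) : symbol R M e = q R e := rfl

theorem q_eq_zero_of_mem (e : Adm R M l) (a : Fin l) (h : e.1 a ∈ spanBefore R M e.1 a) :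
    q R e = 0 :=
  (Submodule.Quotient.mk_eq_zero _).2 (Submodule.subset_span (Or.inl (Or.inl ⟨e, a, h, rfl⟩)))

theorem q_modify (e e' : Adm R M l) (a : Fin l) (c : Rˣ) (hne : ∀ j, j ≠ a → e.1 j = e'.1 j)
    (h : e.1 a - (c : R) • e'.1 a ∈ spanBefore R M e.1 a) :
    q R e = residue R (c : R) • q R e' := by
  rw [← sub_eq_zero, q, q, ← Submodule.Quotient.mk_smul, ← Submodule.Quotient.mk_sub,
    Submodule.Quotient.mk_eq_zero]
  exact Submodule.subset_span (Or.inl (Or.inr ⟨e, e', a, c, hne, h, rfl⟩))

theorem q_swap (e e' : Adm R M l) (a b : Fin l) (hab : (b : ℕ) + 1 = a)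
    (h : ∀ r ∈ maximalIdeal R, r • e.1 a ∈ spanBefore R M e.1 b) (he' : e'.1 = e.1 ∘ Equiv.swap a b) :
    q R e = -q R e' := by
  rw [eq_neg_iff_add_eq_zero, q, q, ← Submodule.Quotient.mk_add, Submodule.Quotient.mk_eq_zero]
  exact Submodule.subset_span (Or.inr ⟨e, e', a, b, hab, h, he', rfl⟩)

theorem span_range_q : Submodule.span (ResidueField R) (Set.range (q R : Adm R M l → DetOfLen R M l)) = ⊤ := by
  have h : (Submodule.span (ResidueField R) (relSet R M l)).mkQ '' Set.range
      (fun e : Adm R M l => (Finsupp.single e 1 : Free R M l)) = Set.range (q R) := by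
    rw [← Set.range_comp]; rfl
  rw [← h, Submodule.span_image]
  have h2 : Submodule.span (ResidueField R) (Set.range fun e : Adm R M l => (Finsupp.single e 1 : Free R M l)) = ⊤ := by
    simpa [Finsupp.coe_basisSingleOne] using (Finsupp.basisSingleOne (R := ResidueField R) (ι := Adm R M l)).span_eq
  rw [h2, Submodule.map_top, Submodule.range_mkQ]

/-! ### lengths -/

theorem length_span_singleton_of_killed {y : M} (hy : y ≠ 0)
    (h : ∀ r ∈ maximalIdeal R, r • y = 0) : Module.length R ↥(R ∙ y) = 1 := by
  have hker : LinearMap.ker (LinearMap.toSpanSingleton R M y) = maximalIdeal R := by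
    refine le_antisymm (fun r hr => ?_) (fun r hr => h r hr)
    simp only [LinearMap.mem_ker, LinearMap.toSpanSingleton_apply] at hr
    rw [mem_maximalIdeal, mem_nonunits_iff]
    exact fun hu => hy (by simpa [smul_smul] using congrArg (fun z => (↑hu.unit⁻¹ : R) • z) hr)
  haveI : IsSimpleModule R (R ⧸ LinearMap.ker (LinearMap.toSpanSingleton R M y)) := by
    rw [hker, isSimpleModule_iff_isCoatom]
    exact (maximalIdeal.isMaximal R).out
  rw [LinearMap.span_singleton_eq_range,
    ← ((LinearMap.toSpanSingleton R M y).quotKerEquivRange).length_eq]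
  exact Module.length_eq_one _ _

theorem length_sup_span (N : Submodule R M) {x : M} (h : ∀ r ∈ maximalIdeal R, r • x ∈ N) :
    Module.length R ↥(N ⊔ R ∙ x) ≤ Module.length R N + 1 ∧
      (x ∉ N → Module.length R ↥(N ⊔ R ∙ x) = Module.length R N + 1) := by
  let g := (N.mkQ.comp (N ⊔ R ∙ x).subtype)
  have hrange : LinearMap.range g = R ∙ N.mkQ x := by
    simp [g, LinearMap.range_comp, Submodule.map_sup, Submodule.map_span, Submodule.mkQ_map_self]
  have hex : Function.Exact (Submodule.inclusion (le_sup_left : N ≤ N ⊔ R ∙ x)) g.rangeRestrict := by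
    rw [LinearMap.exact_iff, LinearMap.ker_rangeRestrict, Submodule.range_inclusion]
    simp [g, LinearMap.ker_comp]
  have hl := Module.length_eq_add_of_exact _ _ (Submodule.inclusion_injective le_sup_left)
    g.surjective_rangeRestrict hex
  rw [hl, (LinearEquiv.ofEq _ _ hrange).length_eq]
  by_cases hx : x ∈ N
  · refine ⟨?_, fun h => absurd hx h⟩
    have h0 : R ∙ N.mkQ x = ⊥ := by simp [(Submodule.Quotient.mk_eq_zero N).2 hx]
    rw [(LinearEquiv.ofEq _ _ h0).length_eq, Module.length_eq_zero (R := R) (M := (⊥ : Submodule R (M ⧸ N)))]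
    simp
  · rw [length_span_singleton_of_killed (y := N.mkQ x) (by simpa using hx)
      (fun r hr => by rw [← map_smul]; exact (Submodule.Quotient.mk_eq_zero N).2 (h r hr))]
    exact ⟨le_rfl, fun _ => rfl⟩

theorem length_spanBefore_le (e : Adm R M l) {n : ℕ} (hn : n ≤ l) :
    Module.length R (spanBefore R M e.1 n) ≤ (n : ℕ∞) ∧
      ((∀ i : Fin l, (i : ℕ) < n → e.1 i ∉ spanBefore R M e.1 i) ↔
        Module.length R (spanBefore R M e.1 n) = (n : ℕ∞)) := by
  induction n with
  | zero =>
    have h0 : Module.length R (spanBefore R M e.1 0) = 0 := by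
      rw [Module.length_eq_zero_iff, spanBefore_zero]; infer_instance
    simp [h0]
  | succ n ih =>
    obtain ⟨h1, h2⟩ := ih (by omega)
    set i : Fin l := ⟨n, by omega⟩ with hi
    have hs : spanBefore R M e.1 (n + 1) = spanBefore R M e.1 n ⊔ R ∙ e.1 i := spanBefore_succ e.1 i
    obtain ⟨hle, heq⟩ := length_sup_span (spanBefore R M e.1 n) (e.2 i)
    rw [hs]
    refine ⟨hle.trans (by push_cast; exact add_le_add h1 le_rfl), ?_, ?_⟩
    · intro hst
      rw [heq (hst i (Nat.lt_succ_self n)), h2.1 fun j hj => hst j (by omega)]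
      push_cast; rfl
    · intro hlen j hj
      by_cases hmem : e.1 i ∈ spanBefore R M e.1 n
      · rw [sup_eq_left.2 ((Submodule.span_singleton_le_iff_mem _ _).2 hmem)] at hlen
        rw [hlen] at h1
        norm_cast at h1
        omega
      · have h3 : Module.length R (spanBefore R M e.1 n) = (n : ℕ∞) := by
          have := (heq hmem).symm.trans hlen
          push_cast at this
          exact WithTop.add_right_cancel (ENat.coe_ne_top 1) this
        rcases Nat.lt_succ_iff_lt_or_eq.1 hj with hlt | he
        · exact h2.2 h3 j hlt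
        · obtain rfl : j = i := Fin.ext he
          exact hmem

theorem span_eq_top_iff (e : Adm R M l) (hl : Module.length R M = (l : ℕ∞)) :
    Submodule.span R (Set.range e.1) = ⊤ ↔ Strict (R := R) e.1 := by
  have h := (length_spanBefore_le e le_rfl).2
  rw [spanBefore_last] at h
  constructor
  · intro ht i
    exact h.2 (by rw [(LinearEquiv.ofEq _ _ ht).length_eq, Module.length_top, hl]) i i.2
  · intro hs
    have h1 := h.1 fun i _ => hs i
    set N := Submodule.span R (Set.range e.1)
    have h2 := Module.length_eq_add_of_exact N.subtype N.mkQ N.injective_subtype N.mkQ_surjective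
      (LinearMap.exact_subtype_mkQ N)
    rw [hl, h1] at h2
    have h3 : Module.length R (M ⧸ N) = 0 := by
      generalize Module.length R (M ⧸ N) = t at h2
      induction t using ENat.recTopCoe with
      | top => simp at h2
      | coe k => norm_cast at h2 ⊢; omega
    rw [Module.length_eq_zero_iff, Submodule.Quotient.subsingleton_iff] at h3
    exact h3

theorem q_eq_zero_of_span_ne_top (e : Adm R M l) (hl : Module.length R M = (l : ℕ∞))
    (h : Submodule.span R (Set.range e.1) ≠ ⊤) : q R e = 0 := by
  rw [Ne, span_eq_top_iff e hl, Strict, not_forall] at h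
  obtain ⟨i, hi⟩ := h
  exact q_eq_zero_of_mem e i (not_not.1 hi)

/-! ### any two generating tuples are proportional -/

theorem exists_move (k : Fin l) : ∀ (i : Fin l), (k : ℕ) ≤ i → ∀ e : Adm R M l,
    (∀ r ∈ maximalIdeal R, r • e.1 i ∈ spanBefore R M e.1 k) →
    ∃ e2 : Adm R M l, (∀ j : Fin l, (j : ℕ) < k → e2.1 j = e.1 j) ∧ e2.1 k = e.1 i ∧
      Submodule.span R (Set.range e2.1) = Submodule.span R (Set.range e.1) ∧
      q R e ∈ (ResidueField R) ∙ q R e2 := by
  rintro ⟨n, hn⟩ hki
  simp only at hki
  induction n, hki using Nat.le_induction with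
  | base => exact fun e _ => ⟨e, fun _ _ => rfl, rfl, rfl, Submodule.mem_span_singleton_self _⟩
  | succ n hkn ih =>
    intro e h
    set a : Fin l := ⟨n + 1, hn⟩
    set b : Fin l := ⟨n, by omega⟩
    have hb : ∀ r ∈ maximalIdeal R, r • e.1 a ∈ spanBefore R M e.1 b := fun r hr =>
      spanBefore_mono _ hkn (h r hr)
    let e1 : Adm R M l := ⟨e.1 ∘ Equiv.swap a b, isAdmissible_swap e rfl hb⟩
    have he1b : e1.1 b = e.1 a := by simp [e1]
    have hlt : ∀ j : Fin l, (j : ℕ) < k → e1.1 j = e.1 j := fun j hj => by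
      show e.1 (Equiv.swap a b j) = e.1 j
      rw [Equiv.swap_apply_of_ne_of_ne] <;> rintro rfl <;> simp only [a, b] at hj <;> omega
    obtain ⟨e2, h1, h2, h3, h4⟩ := ih (by omega) e1 (fun r hr => by
      show r • e1.1 b ∈ _
      rw [he1b, spanBefore_congr hlt]; exact h r hr)
    refine ⟨e2, fun j hj => (h1 j hj).trans (hlt j hj), h2.trans he1b,
      h3.trans (by simp [e1, Set.range_comp]), ?_⟩
    rw [q_swap e e1 a b rfl hb rfl]
    exact Submodule.neg_mem _ h4

theorem proportional (e e' : Adm R M l) (he : Submodule.span R (Set.range e.1) = ⊤)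
    (hs' : Strict (R := R) e'.1) : q R e ∈ (ResidueField R) ∙ q R e' := by
  suffices H : ∀ d k : ℕ, l - k = d → ∀ e : Adm R M l, Submodule.span R (Set.range e.1) = ⊤ →
      (∀ j : Fin l, (j : ℕ) < k → e.1 j = e'.1 j) → q R e ∈ (ResidueField R) ∙ q R e' from
    H _ 0 rfl e he (fun j hj => absurd hj (by omega))
  intro d
  induction d with
  | zero =>
    intro k hk e _ h
    obtain rfl : e = e' := Subtype.ext (funext fun j => h j (by omega))
    exact Submodule.mem_span_singleton_self _
  | succ d ih =>
    intro k hk e he h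
    classical
    set K : Fin l := ⟨k, by omega⟩
    set x := e'.1 K
    have hxk : x ∉ spanBefore R M e.1 k := by
      rw [spanBefore_congr h]; exact hs' K
    have hex : ∃ n, x ∈ spanBefore R M e.1 (n + 1) := by
      refine ⟨l - 1, ?_⟩
      rw [Nat.sub_add_cancel (by omega), spanBefore_last, he]; trivial
    set n := Nat.find hex with hn
    have hx : x ∈ spanBefore R M e.1 (n + 1) := Nat.find_spec hex
    have hkn : k ≤ n := by
      by_contra hc
      exact hxk (spanBefore_mono _ (by omega) hx)
    have hnl : n < l := by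
      have : n ≤ l - 1 := Nat.find_le (by rw [Nat.sub_add_cancel (by omega), spanBefore_last, he]; trivial)
      omega
    have hxn : x ∉ spanBefore R M e.1 n := by
      intro hc
      by_cases hk0 : k < n
      · exact Nat.find_min hex (m := n - 1) (by omega) (by rwa [Nat.sub_add_cancel (by omega)])
      · exact hxk (spanBefore_mono _ (by omega) hc)
    set i : Fin l := ⟨n, hnl⟩
    rw [show n + 1 = (i : ℕ) + 1 from rfl, spanBefore_succ] at hx
    obtain ⟨c, hc⟩ := exists_unit_sub_mem (e.2 i) hxn hx
    have hK : ∀ r ∈ maximalIdeal R, r • x ∈ spanBefore R M e.1 k := fun r hr => by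
      rw [spanBefore_congr h]; exact e'.2 K r hr
    have hne : ∀ j, j ≠ i → Function.update e.1 i x j = e.1 j := fun j hj => Function.update_of_ne hj _ _
    have hci : Function.update e.1 i x i - (c : R) • e.1 i ∈
        spanBefore R M (Function.update e.1 i x) i := by
      rw [Function.update_self, spanBefore_congr (e' := e.1) fun j hj => hne j (by rintro rfl; omega)]
      exact hc
    have hspan := spanBefore_eq_of_modify i c hne hci
    let e1 : Adm R M l := ⟨Function.update e.1 i x, fun j r hr => by
      rw [hspan]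
      by_cases hj : j = i
      · rw [hj, Function.update_self]
        exact spanBefore_mono _ hkn (hK r hr)
      · rw [hne j hj]; exact e.2 j r hr⟩
    have h1 : q R e1 = residue R (c : R) • q R e := q_modify e1 e i c hne hci
    obtain ⟨e2, hlt, hek, hsp, hq⟩ := exists_move K i hkn e1 (fun r hr => by
      show r • Function.update e.1 i x i ∈ spanBefore R M (Function.update e.1 i x) k
      rw [Function.update_self, hspan]; exact hK r hr)
    have hq2 := ih (k + 1) (by omega) e2 (by
      rw [hsp, ← spanBefore_last, hspan, spanBefore_last, he]) (fun j hj => by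
      rcases Nat.lt_succ_iff_lt_or_eq.1 hj with hlt' | heq
      · rw [hlt j hlt']
        exact (hne j (by rintro rfl; simp [i] at hlt'; omega)).trans (h j hlt')
      · obtain rfl : j = K := Fin.ext heq
        rw [hek]
        exact Function.update_self _ _ _)
    have h2 : q R e = (residue R (c : R))⁻¹ • q R e1 := by
      rw [h1, inv_smul_smul₀]
      exact (IsUnit.map _ c.isUnit).ne_zero
    rw [h2]
    exact Submodule.smul_mem _ _ ((Submodule.span_singleton_le_iff_mem _ _).2 hq2 hq)

theorem rank_det_le_one (hl : Module.length R M = (l : ℕ∞)) :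
    Module.rank (ResidueField R) (DetOfLen R M l) ≤ 1 := by
  rw [rank_le_one_iff]
  by_cases h : ∃ e' : Adm R M l, Submodule.span R (Set.range e'.1) = ⊤
  · obtain ⟨e', he'⟩ := h
    refine ⟨q R e', fun w => Submodule.mem_span_singleton.1 ?_⟩
    have hle : (⊤ : Submodule (ResidueField R) (DetOfLen R M l)) ≤ (ResidueField R) ∙ q R e' := by
      rw [← span_range_q, Submodule.span_le]
      rintro _ ⟨e, rfl⟩
      by_cases he : Submodule.span R (Set.range e.1) = ⊤
      · exact proportional e e' he ((span_eq_top_iff e' hl).1 he')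
      · rw [q_eq_zero_of_span_ne_top e hl he]; exact Submodule.zero_mem _
    exact hle trivial
  · refine ⟨0, fun w => ⟨0, ?_⟩⟩
    have hle : (⊤ : Submodule (ResidueField R) (DetOfLen R M l)) ≤ ⊥ := by
      rw [← span_range_q, Submodule.span_le]
      rintro _ ⟨e, rfl⟩
      exact q_eq_zero_of_span_ne_top e hl fun he => h ⟨e, he⟩
    simpa using ((Submodule.mem_bot _).1 (hle (trivial : w ∈ ⊤))).symm

end

end GrothLib.CycDetL
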