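import Groth.Agent.Lib.CycDetL.Functional
import Mathlib.LinearAlgebra.TensorProduct.Basic
import Mathlib.LinearAlgebra.Dimension.Constructions
import Mathlib.Data.Fin.Tuple.Basic

universe u v

open TensorProduct

namespace GrothLib.CycDetL

open IsLocalRing CycDet

variable {R : Type u} [CommRing R] [IsLocalRing R]

section
variable {M : Type v} [AddCommGroup M] [Module R M] {l : ℕ}

theorem spanBefore_eq_of_sub_mem {e f : Fin l → M}
    (h : ∀ j : Fin l, e j - f j ∈ spanBefore R M e j) (n : ℕ) :
    spanBefore R M e n = spanBefore R M f n := by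
  induction n with
  | zero => rw [spanBefore_zero, spanBefore_zero]
  | succ n ih =>
    by_cases hn : n < l
    · rw [spanBefore_succ e ⟨n, hn⟩, spanBefore_succ f ⟨n, hn⟩]
      simp only [← ih]
      refine sup_span_eq_of_unit_sub_mem 1 ?_
      simpa using h ⟨n, hn⟩
    · have h1 : ∀ t : Fin l → M, spanBefore R M t (n + 1) = spanBefore R M t n := fun t => by
        simp only [spanBefore]
        congr 2
        ext x
        simp only [Set.mem_ofPred_eq]
        have := x.2
        omega
      rw [h1, h1, ih]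

theorem q_eq_of_sub_mem (e e' : Adm R M l) (h : ∀ j : Fin l, e.1 j - e'.1 j ∈ spanBefore R M e.1 j) :
    q R e = q R e' := by
  let mix : ℕ → Fin l → M := fun n j => if (j : ℕ) < n then e'.1 j else e.1 j
  have hm : ∀ n (j : Fin l), e.1 j - mix n j ∈ spanBefore R M e.1 j := fun n j => by
    by_cases hj : (j : ℕ) < n <;> simp [mix, hj, h j]
  have hS : ∀ n m, spanBefore R M e.1 m = spanBefore R M (mix n) m := fun n =>
    spanBefore_eq_of_sub_mem (hm n)
  let A : ℕ → Adm R M l := fun n => ⟨mix n, fun j r hr => by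
    rw [← hS n]
    by_cases hj : (j : ℕ) < n
    · simp only [mix, if_pos hj]
      rw [spanBefore_eq_of_sub_mem h]
      exact e'.2 j r hr
    · simp only [mix, if_neg hj]; exact e.2 j r hr⟩
  have hstep : ∀ n, q R (A n) = q R (A (n + 1)) := by
    intro n
    by_cases hn : n < l
    · rw [q_modify (A n) (A (n + 1)) ⟨n, hn⟩ 1 (fun j hj => by
        have : (j : ℕ) ≠ n := fun hh => hj (Fin.ext hh)
        simp only [A, mix]
        split_ifs <;> first | rfl | omega) (by
        simp only [A]
        rw [← hS n]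
        simpa [mix] using h ⟨n, hn⟩)]
      simp
    · congr 1
      refine Subtype.ext (funext fun j => ?_)
      simp only [A, mix]
      have := j.2
      split_ifs <;> first | rfl | omega
  have hall : ∀ n, q R (A 0) = q R (A n) := fun n => by
    induction n with
    | zero => rfl
    | succ n ih => rw [ih, hstep n]
  calc q R e = q R (A 0) := rfl
    _ = q R (A l) := hall l
    _ = q R e' := by congr 1; exact Subtype.ext (funext fun j => by simp [A, mix])

end

variable {K L M : Type u} [AddCommGroup K] [Module R K] [AddCommGroup L] [Module R L]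
  [AddCommGroup M] [Module R M] {f : K →ₗ[R] L} {g : L →ₗ[R] M} {k m : ℕ}

theorem spanBefore_append_left {a : Fin k → L} {b : Fin m → L} {n : ℕ} (hn : n ≤ k) :
    spanBefore R L (Fin.append a b) n = spanBefore R L a n := by
  simp only [spanBefore]
  congr 1
  ext y
  constructor
  · rintro ⟨j, hj, rfl⟩
    induction j using Fin.addCases with
    | left j => exact ⟨j, hj, by simp⟩
    | right j => simp only [Set.mem_ofPred_eq, Fin.val_natAdd] at hj; omega
  · rintro ⟨j, hj, rfl⟩
    exact ⟨Fin.castAdd m j, hj, by simp⟩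

theorem spanBefore_map (h : K →ₗ[R] L) (e : Fin k → K) (n : ℕ) :
    spanBefore R L (fun j => h (e j)) n = (spanBefore R K e n).map h := by
  simp only [spanBefore, Submodule.map_span, ← Set.image_comp]
  rfl

variable (hfg : LinearMap.range f = LinearMap.ker g)
include hfg

theorem spanBefore_append_right {eK : Fin k → K} (hK : Submodule.span R (Set.range eK) = ⊤)
    {b : Fin m → L} {eM : Fin m → M} (hb : ∀ j, g (b j) = eM j) (n : ℕ) :
    spanBefore R L (Fin.append (fun j => f (eK j)) b) (k + n) = (spanBefore R M eM n).comap g := by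
  have hker : LinearMap.ker g ≤ spanBefore R L (Fin.append (fun j => f (eK j)) b) (k + n) := by
    refine le_trans ?_ (spanBefore_mono _ (Nat.le_add_right k n))
    rw [spanBefore_append_left le_rfl, spanBefore_map, spanBefore_last, hK, ← hfg, Submodule.map_top]
  have hmap : (spanBefore R L (Fin.append (fun j => f (eK j)) b) (k + n)).map g = spanBefore R M eM n := by
    simp only [spanBefore, Submodule.map_span]
    refine le_antisymm (Submodule.span_le.2 ?_) (Submodule.span_mono ?_)
    · rintro _ ⟨_, ⟨j, hj, rfl⟩, rfl⟩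
      induction j using Fin.addCases with
      | left j =>
        rw [Fin.append_left]
        have : f (eK j) ∈ LinearMap.ker g := by rw [← hfg]; exact LinearMap.mem_range_self f _
        rw [LinearMap.mem_ker.1 this]
        exact Submodule.zero_mem _
      | right j =>
        rw [Fin.append_right, hb]
        simp only [Set.mem_ofPred_eq, Fin.val_natAdd] at hj
        exact Submodule.subset_span ⟨j, by simp only [Set.mem_ofPred_eq]; omega, rfl⟩
    · rintro _ ⟨j, hj, rfl⟩
      exact ⟨b j, ⟨Fin.natAdd k j, by simp only [Set.mem_ofPred_eq, Fin.val_natAdd] at hj ⊢; omega,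
        by simp⟩, hb j⟩
  rw [← hmap, Submodule.comap_map_eq, sup_eq_left.2 hker]

theorem isAdmissible_append (eK : Adm R K k) (hK : Submodule.span R (Set.range eK.1) = ⊤)
    (eM : Adm R M m) {b : Fin m → L} (hb : ∀ j, g (b j) = eM.1 j) :
    IsAdmissible R L (Fin.append (fun j => f (eK.1 j)) b) := by
  intro i r hr
  induction i using Fin.addCases with
  | left j =>
    rw [Fin.append_left, Fin.val_castAdd, spanBefore_append_left j.2.le, spanBefore_map, ← map_smul]
    exact Submodule.mem_map_of_mem (eK.2 j r hr)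
  | right j =>
    rw [Fin.append_right, Fin.val_natAdd, spanBefore_append_right hfg hK hb]
    simpa [map_smul, hb] using eM.2 j r hr

variable (hg : Function.Surjective g)

/-- concatenation with chosen lifts -/
noncomputable def concat (eK : Adm R K k) (hK : Submodule.span R (Set.range eK.1) = ⊤) (eM : Adm R M m) :
    Adm R L (k + m) :=
  ⟨Fin.append (fun j => f (eK.1 j)) (fun j => Function.surjInv hg (eM.1 j)),
    isAdmissible_append hfg eK hK eM fun j => Function.surjInv_eq hg _⟩

theorem span_concat {eK : Adm R K k} (hK : Submodule.span R (Set.range eK.1) = ⊤) {eM : Adm R M m}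
    (hM : Submodule.span R (Set.range eM.1) = ⊤) :
    Submodule.span R (Set.range (concat hfg hg eK hK eM).1) = ⊤ := by
  rw [← spanBefore_last, concat, spanBefore_append_right hfg hK (fun j => Function.surjInv_eq hg _),
    spanBefore_last, hM, Submodule.comap_top]

open Classical in
/-- bilinear value on generators -/
noncomputable def pairFn (eK : Adm R K k) (eM : Adm R M m) : DetOfLen R L (k + m) :=
  if hK : Submodule.span R (Set.range eK.1) = ⊤ then q R (concat hfg hg eK hK eM) else 0

theorem pairFn_modify_left (eK eK' : Adm R K k) (eM : Adm R M m) (a : Fin k) (c : Rˣ)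
    (hne : ∀ j, j ≠ a → eK.1 j = eK'.1 j) (h : eK.1 a - (c : R) • eK'.1 a ∈ spanBefore R K eK.1 a) :
    pairFn hfg hg eK eM = residue R (c : R) • pairFn hfg hg eK' eM := by
  have hs : Submodule.span R (Set.range eK.1) = Submodule.span R (Set.range eK'.1) := by
    rw [← spanBefore_last, ← spanBefore_last, spanBefore_eq_of_modify a c hne h]
  unfold pairFn
  by_cases hK : Submodule.span R (Set.range eK.1) = ⊤
  · rw [dif_pos hK, dif_pos (hs.symm.trans hK)]
    refine q_modify _ _ (Fin.castAdd m a) c (fun j hj => ?_) ?_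
    · induction j using Fin.addCases with
      | left j => simp [concat, hne j (fun hh => hj (by rw [hh]))]
      | right j => simp [concat]
    · simp only [concat, Fin.append_left, Fin.val_castAdd]
      rw [spanBefore_append_left a.2.le, spanBefore_map, ← map_smul, ← map_sub]
      exact Submodule.mem_map_of_mem h
  · rw [dif_neg hK, dif_neg (fun hh => hK (hs.trans hh)), smul_zero]

theorem pairFn_swap_left (eK eK' : Adm R K k) (eM : Adm R M m) (a b : Fin k) (hab : (b : ℕ) + 1 = a)
    (h : ∀ r ∈ maximalIdeal R, r • eK.1 a ∈ spanBefore R K eK.1 b)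
    (he' : eK'.1 = eK.1 ∘ Equiv.swap a b) :
    pairFn hfg hg eK eM = -pairFn hfg hg eK' eM := by
  have hs : Submodule.span R (Set.range eK'.1) = Submodule.span R (Set.range eK.1) := by
    simp [he', Set.range_comp]
  unfold pairFn
  by_cases hK : Submodule.span R (Set.range eK.1) = ⊤
  · rw [dif_pos hK, dif_pos (hs.trans hK)]
    refine q_swap _ _ (Fin.castAdd m a) (Fin.castAdd m b) (by simpa using hab) (fun r hr => ?_) ?_
    · simp only [concat, Fin.append_left, Fin.val_castAdd]
      rw [spanBefore_append_left b.2.le, spanBefore_map, ← map_smul]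
      exact Submodule.mem_map_of_mem (h r hr)
    · funext j
      induction j using Fin.addCases with
      | left j =>
        simp only [concat, Function.comp_apply, Fin.append_left, he']
        rw [(Fin.castAdd_injective k m).map_swap a b j |>.symm |> fun hh => hh, Fin.append_left]
      | right j =>
        simp only [concat, Function.comp_apply, Fin.append_right]
        rw [Equiv.swap_apply_of_ne_of_ne, Fin.append_right] <;>
          simp [Fin.ext_iff] <;> omega
  · rw [dif_neg hK, dif_neg (fun hh => hK (hs.symm.trans hh)), neg_zero]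

theorem pairFn_zero_left (hlK : Module.length R K = (k : ℕ∞)) (eK : Adm R K k) (eM : Adm R M m) (a : Fin k)
    (h : eK.1 a ∈ spanBefore R K eK.1 a) : pairFn hfg hg eK eM = 0 :=
  dif_neg fun hK => (span_eq_top_iff eK hlK).1 hK a h

theorem pairFn_zero_right (eK : Adm R K k) (eM : Adm R M m) (a : Fin m)
    (h : eM.1 a ∈ spanBefore R M eM.1 a) : pairFn hfg hg eK eM = 0 := by
  unfold pairFn
  by_cases hK : Submodule.span R (Set.range eK.1) = ⊤
  · rw [dif_pos hK]
    refine q_eq_zero_of_mem _ (Fin.natAdd k a) ?_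
    simp only [concat, Fin.append_right, Fin.val_natAdd]
    rw [spanBefore_append_right hfg hK (fun j => Function.surjInv_eq hg _), Submodule.mem_comap,
      Function.surjInv_eq hg]
    exact h
  · rw [dif_neg hK]

theorem pairFn_modify_right (eK : Adm R K k) (eM eM' : Adm R M m) (a : Fin m) (c : Rˣ)
    (hne : ∀ j, j ≠ a → eM.1 j = eM'.1 j) (h : eM.1 a - (c : R) • eM'.1 a ∈ spanBefore R M eM.1 a) :
    pairFn hfg hg eK eM = residue R (c : R) • pairFn hfg hg eK eM' := by
  unfold pairFn
  by_cases hK : Submodule.span R (Set.range eK.1) = ⊤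
  · rw [dif_pos hK, dif_pos hK]
    refine q_modify _ _ (Fin.natAdd k a) c (fun j hj => ?_) ?_
    · induction j using Fin.addCases with
      | left j => simp [concat]
      | right j => simp [concat, hne j (fun hh => hj (by rw [hh]))]
    · simp only [concat, Fin.append_right, Fin.val_natAdd]
      rw [spanBefore_append_right hfg hK (fun j => Function.surjInv_eq hg _), Submodule.mem_comap,
        map_sub, map_smul, Function.surjInv_eq hg, Function.surjInv_eq hg]
      exact h
  · rw [dif_neg hK, dif_neg hK, smul_zero]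

theorem pairFn_swap_right (eK : Adm R K k) (eM eM' : Adm R M m) (a b : Fin m) (hab : (b : ℕ) + 1 = a)
    (h : ∀ r ∈ maximalIdeal R, r • eM.1 a ∈ spanBefore R M eM.1 b)
    (he' : eM'.1 = eM.1 ∘ Equiv.swap a b) :
    pairFn hfg hg eK eM = -pairFn hfg hg eK eM' := by
  unfold pairFn
  by_cases hK : Submodule.span R (Set.range eK.1) = ⊤
  · rw [dif_pos hK, dif_pos hK]
    refine q_swap _ _ (Fin.natAdd k a) (Fin.natAdd k b) (by simp; omega) (fun r hr => ?_) ?_
    · simp only [concat, Fin.append_right, Fin.val_natAdd]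
      rw [spanBefore_append_right hfg hK (fun j => Function.surjInv_eq hg _), Submodule.mem_comap,
        map_smul, Function.surjInv_eq hg]
      exact h r hr
    · funext j
      induction j using Fin.addCases with
      | left j =>
        simp only [concat, Function.comp_apply, Fin.append_left]
        rw [Equiv.swap_apply_of_ne_of_ne, Fin.append_left] <;>
          simp [Fin.ext_iff] <;> omega
      | right j =>
        simp only [concat, Function.comp_apply, Fin.append_right, he']
        rw [((Fin.natAdd_injective m k).map_swap a b j).symm, Fin.append_right]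
  · rw [dif_neg hK, dif_neg hK, neg_zero]

omit hfg in
theorem smulRel_eq_zero {N : Type*} [AddCommGroup N] [Module (ResidueField R) N] {P : Type v}
    [AddCommGroup P] [Module R P] {l : ℕ} (F : Adm R P l → N)
    (hz : ∀ e (a : Fin l), e.1 a ∈ spanBefore R P e.1 a → F e = 0)
    (hm : ∀ (e e' : Adm R P l) (a : Fin l) (c : Rˣ), (∀ j, j ≠ a → e.1 j = e'.1 j) →
      e.1 a - (c : R) • e'.1 a ∈ spanBefore R P e.1 a → F e = residue R (c : R) • F e')
    (hs : ∀ (e e' : Adm R P l) (a b : Fin l), (b : ℕ) + 1 = a →
      (∀ r ∈ maximalIdeal R, r • e.1 a ∈ spanBefore R P e.1 b) →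
      e'.1 = e.1 ∘ Equiv.swap a b → F e = -F e') :
    Submodule.span (ResidueField R) (relSet R P l) ≤
      LinearMap.ker (Finsupp.linearCombination (ResidueField R) F) := by
  have hsym : ∀ e, Finsupp.linearCombination (ResidueField R) F (sym R P e) = F e := fun e => by
    simp [sym]
  rw [Submodule.span_le]
  rintro _ ((⟨e, a, h, rfl⟩ | ⟨e, e', a, c, hne, h, rfl⟩) | ⟨e, e', a, b, hab, h, he', rfl⟩)
  · rw [SetLike.mem_coe, LinearMap.mem_ker, hsym]; exact hz e a h
  · rw [SetLike.mem_coe, LinearMap.mem_ker, map_sub, map_smul, hsym, hsym, hm e e' a c hne h, sub_self]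
  · rw [SetLike.mem_coe, LinearMap.mem_ker, map_add, hsym, hsym, hs e e' a b hab h he', neg_add_cancel]

theorem exists_gamma_aux (hg : Function.Surjective g) (hlK : Module.length R K = (k : ℕ∞)) (hlM : Module.length R M = (m : ℕ∞))
    (hlL : Module.length R L = ((k + m : ℕ) : ℕ∞)) :
    ∃ γ : (DetOfLen R K k ⊗[ResidueField R] DetOfLen R M m) ≃ₗ[ResidueField R] DetOfLen R L (k + m),
      ∀ (eK : Adm R K k) (eM : Adm R M m) (eL : Adm R L (k + m)), q R eK ≠ 0 →
        (∀ i : Fin k, eL.1 (Fin.castAdd m i) = f (eK.1 i)) →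
        (∀ j : Fin m, g (eL.1 (Fin.natAdd k j)) = eM.1 j) →
        γ (q R eK ⊗ₜ q R eM) = q R eL := by
  let κ := ResidueField R
  let inner : Adm R K k → (DetOfLen R M m →ₗ[κ] DetOfLen R L (k + m)) := fun eK =>
    Submodule.liftQ _ (Finsupp.linearCombination κ (pairFn hfg hg eK))
      (smulRel_eq_zero _ (pairFn_zero_right hfg hg eK) (pairFn_modify_right hfg hg eK)
        (pairFn_swap_right hfg hg eK))
  have hinner : ∀ eK eM, inner eK (q R eM) = pairFn hfg hg eK eM := fun eK eM => by
    simp [inner, q, sym]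
  have hext : ∀ φ ψ : DetOfLen R M m →ₗ[κ] DetOfLen R L (k + m),
      (∀ eM, φ (q R eM) = ψ (q R eM)) → φ = ψ := fun φ ψ h =>
    LinearMap.ext_on span_range_q (by rintro _ ⟨e, rfl⟩; exact h e)
  let B : DetOfLen R K k →ₗ[κ] DetOfLen R M m →ₗ[κ] DetOfLen R L (k + m) :=
    Submodule.liftQ _ (Finsupp.linearCombination κ inner)
      (smulRel_eq_zero _
        (fun e a h => hext _ _ fun eM => by
          rw [hinner, pairFn_zero_left hfg hg hlK e eM a h, LinearMap.zero_apply])
        (fun e e' a c hne h => hext _ _ fun eM => by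
          rw [hinner, LinearMap.smul_apply, hinner]; exact pairFn_modify_left hfg hg e e' eM a c hne h)
        (fun e e' a b hab h he' => hext _ _ fun eM => by
          rw [hinner, LinearMap.neg_apply, hinner]; exact pairFn_swap_left hfg hg e e' eM a b hab h he'))
  have hB : ∀ eK eM, B (q R eK) (q R eM) = pairFn hfg hg eK eM := fun eK eM => by
    rw [← hinner]; simp [B, q, sym]
  let γ₀ := TensorProduct.lift B
  obtain ⟨eK₀, hK₀⟩ := exists_generating (R := R) hlK
  obtain ⟨eM₀, hM₀⟩ := exists_generating (R := R) hlM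
  have hgen : ∀ {P : Type u} [AddCommGroup P] [Module R P] {l : ℕ} (_ : Module.length R P = (l : ℕ∞))
      (e₀ : Adm R P l) (_ : Submodule.span R (Set.range e₀.1) = ⊤) (w : DetOfLen R P l),
      ∃ t : κ, t • q R e₀ = w := by
    intro P _ _ l hl e₀ he₀ w
    obtain ⟨v, hv⟩ := rank_le_one_iff.1 (rank_det_le_one (M := P) hl)
    obtain ⟨s, hs⟩ := hv (q R e₀)
    have hs0 : s ≠ 0 := by
      rintro rfl
      exact q_ne_zero_of_span_eq_top hl e₀ he₀ (by rw [← hs, zero_smul])
    obtain ⟨t, ht⟩ := hv w
    exact ⟨t * s⁻¹, by rw [← hs, smul_smul, mul_assoc, inv_mul_cancel₀ hs0, mul_one, ht]⟩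
  have h0 : γ₀ (q R eK₀ ⊗ₜ q R eM₀) = q R (concat hfg hg eK₀ hK₀ eM₀) := by
    simp only [γ₀, TensorProduct.lift.tmul, hB, pairFn, dif_pos hK₀]
  have hne := q_ne_zero_of_span_eq_top hlL _ (span_concat hfg hg hK₀ hM₀)
  have hall : ∀ x : DetOfLen R K k ⊗[κ] DetOfLen R M m, ∃ t : κ, t • (q R eK₀ ⊗ₜ[κ] q R eM₀) = x := by
    intro x
    induction x using TensorProduct.induction_on with
    | zero => exact ⟨0, zero_smul _ _⟩
    | tmul y z =>
      obtain ⟨s, rfl⟩ := hgen hlK eK₀ hK₀ y
      obtain ⟨t, rfl⟩ := hgen hlM eM₀ hM₀ z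
      exact ⟨s * t, by rw [TensorProduct.smul_tmul_smul]⟩
    | add y z hy hz =>
      obtain ⟨s, rfl⟩ := hy
      obtain ⟨t, rfl⟩ := hz
      exact ⟨s + t, add_smul _ _ _⟩
  refine ⟨LinearEquiv.ofBijective γ₀ ⟨?_, fun w => ?_⟩, fun eK eM eL hK h1 h2 => ?_⟩
  · rw [injective_iff_map_eq_zero]
    intro x hx
    obtain ⟨t, rfl⟩ := hall x
    rw [map_smul, h0, smul_eq_zero] at hx
    rcases hx with rfl | h
    · exact zero_smul _ _
    · exact absurd h hne
  · obtain ⟨t, ht⟩ := hgen hlL _ (span_concat hfg hg hK₀ hM₀) w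
    exact ⟨t • (q R eK₀ ⊗ₜ[κ] q R eM₀), by rw [map_smul, h0, ht]⟩
  · have hKgen : Submodule.span R (Set.range eK.1) = ⊤ := by
      by_contra hh
      exact hK (q_eq_zero_of_span_ne_top eK hlK hh)
    show γ₀ (q R eK ⊗ₜ[κ] q R eM) = _
    rw [show γ₀ (q R eK ⊗ₜ[κ] q R eM) = B (q R eK) (q R eM) from TensorProduct.lift.tmul _ _,
      hB, pairFn, dif_pos hKgen]
    refine q_eq_of_sub_mem _ _ fun j => ?_
    induction j using Fin.addCases with
    | left j => simp [concat, h1]
    | right j =>
      simp only [concat, Fin.append_right, Fin.val_natAdd]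
      rw [spanBefore_append_right hfg hKgen (fun j => Function.surjInv_eq hg _), Submodule.mem_comap,
        map_sub, Function.surjInv_eq hg, h2, sub_self]
      exact Submodule.zero_mem _

theorem exists_gamma_cast {n : ℕ} (hn : k + m = n) (hlK : Module.length R K = (k : ℕ∞))
    (hlM : Module.length R M = (m : ℕ∞)) (hlL : Module.length R L = (n : ℕ∞))
    (hg : Function.Surjective g) :
    ∃ γ : (DetOfLen R K k ⊗[ResidueField R] DetOfLen R M m) ≃ₗ[ResidueField R] DetOfLen R L n,
      ∀ (eK : Adm R K k) (eM : Adm R M m) (eL : Adm R L n), q R eK ≠ 0 →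
        (∀ i : Fin k, eL.1 (Fin.cast hn (Fin.castAdd m i)) = f (eK.1 i)) →
        (∀ j : Fin m, g (eL.1 (Fin.cast hn (Fin.natAdd k j))) = eM.1 j) →
        γ (q R eK ⊗ₜ q R eM) = q R eL := by
  subst hn
  exact exists_gamma_aux hfg hg hlK hlM hlL

end GrothLib.CycDetL
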