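import Groth.Agent.Lib.CycDetL.Functional
import Groth.Prelude.Def_Tame
import Mathlib.RingTheory.OrderOfVanishing.Basic
import Mathlib.RingTheory.Artinian.Ring
import Mathlib.Algebra.Module.LocalizedModule.Submodule
import Mathlib.RingTheory.Localization.AtPrime.Basic
import Mathlib.RingTheory.Finiteness.Basic
import Mathlib.RingTheory.LocalRing.Length
import Mathlib.RingTheory.Length

/-!
# Lengths of lattices attached to admissible tuples at a prime of dimension one
-/

set_option autoImplicit false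

universe u v

open IsLocalRing CycDet

namespace GrothLib.CycDetL

section relLen

variable {R : Type u} [CommRing R] {N : Type v} [AddCommGroup N] [Module R N]

/-- The length of `T` modulo `S`. -/
noncomputable def relLen (S T : Submodule R N) : ℕ∞ := Module.length R (T.map S.mkQ)

theorem relLen_top (S : Submodule R N) : relLen S ⊤ = Module.length R (N ⧸ S) := by
  rw [relLen, Submodule.map_top, Submodule.range_mkQ, Module.length_top]

theorem relLen_self (S : Submodule R N) : relLen S S = 0 := by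
  rw [relLen, Submodule.mkQ_map_self, Module.length_eq_zero_iff]
  infer_instance

theorem relLen_add {S T U : Submodule R N} (h : S ≤ T) (h' : T ≤ U) :
    relLen S U = relLen S T + relLen T U := by
  let i : T.map S.mkQ →ₗ[R] U.map S.mkQ := Submodule.inclusion (Submodule.map_mono h')
  let p₀ : N ⧸ S →ₗ[R] N ⧸ T := S.mapQ T LinearMap.id h
  have hp₀ : ∀ x, p₀ (S.mkQ x) = T.mkQ x := fun x => rfl
  let p : U.map S.mkQ →ₗ[R] U.map T.mkQ := p₀.restrict (fun z hz => by
    obtain ⟨x, hx, rfl⟩ := hz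
    exact ⟨x, hx, (hp₀ x).symm⟩)
  have hp : Function.Surjective p := by
    rintro ⟨_, x, hx, rfl⟩
    exact ⟨⟨S.mkQ x, x, hx, rfl⟩, Subtype.ext (hp₀ x)⟩
  refine Module.length_eq_add_of_exact i p (Submodule.inclusion_injective _) hp fun z => ⟨?_, ?_⟩
  · obtain ⟨_, x, hx, rfl⟩ := z
    intro hz
    have hxT : x ∈ T := (Submodule.Quotient.mk_eq_zero T).1 (congrArg Subtype.val hz)
    exact ⟨⟨S.mkQ x, x, hxT, rfl⟩, rfl⟩
  · rintro ⟨⟨_, x, hx, rfl⟩, rfl⟩
    exact Subtype.ext ((hp₀ x).trans ((Submodule.Quotient.mk_eq_zero T).2 hx))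

theorem relLen_sup {S T : Submodule R N} (P : Submodule R N) (h : S ≤ T) (h' : T ⊓ (S ⊔ P) ≤ S) :
    relLen S T = relLen (S ⊔ P) (T ⊔ P) := by
  let p₀ : N ⧸ S →ₗ[R] N ⧸ (S ⊔ P) := S.mapQ (S ⊔ P) LinearMap.id le_sup_left
  have hp₀ : ∀ x, p₀ (S.mkQ x) = (S ⊔ P).mkQ x := fun x => rfl
  let p : T.map S.mkQ →ₗ[R] (T ⊔ P).map (S ⊔ P).mkQ := p₀.restrict (fun z hz => by
    obtain ⟨x, hx, rfl⟩ := hz
    exact ⟨x, Submodule.mem_sup_left hx, (hp₀ x).symm⟩)
  refine (LinearEquiv.ofBijective p ⟨?_, ?_⟩).length_eq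
  · rw [← LinearMap.ker_eq_bot, LinearMap.ker_eq_bot']
    rintro ⟨_, x, hx, rfl⟩ hz
    have hxS : x ∈ S ⊔ P := (Submodule.Quotient.mk_eq_zero _).1 (congrArg Subtype.val hz)
    exact Subtype.ext ((Submodule.Quotient.mk_eq_zero S).2 (h' ⟨hx, hxS⟩))
  · rintro ⟨_, x, hx, rfl⟩
    obtain ⟨t, ht, y, hy, rfl⟩ := Submodule.mem_sup.1 hx
    refine ⟨⟨S.mkQ t, t, ht, rfl⟩, Subtype.ext ((hp₀ t).trans ?_)⟩
    exact (Submodule.Quotient.eq _).2 (by simpa using Submodule.mem_sup_right hy)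

end relLen

variable {R : Type u} [CommRing R] (q : Ideal R) [q.IsPrime]

/-- The order at `R ⧸ q`. -/
noncomputable def ordR (r : R) : ℕ∞ := Ring.ord (R ⧸ q) (Ideal.Quotient.mk q r)

section ord

theorem krullDimLE_of_dim (hq : ringKrullDim (R ⧸ q) = 1) : Ring.KrullDimLE 1 (R ⧸ q) :=
  (Order.krullDimLE_iff _ _).2 (by rw [show Order.krullDim (PrimeSpectrum (R ⧸ q)) = ringKrullDim (R ⧸ q) from rfl, hq]; rfl)

variable {q}

theorem mk_mem_nonZeroDivisors {r : R} (hr : r ∉ q) : Ideal.Quotient.mk q r ∈ nonZeroDivisors (R ⧸ q) :=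
  mem_nonZeroDivisors_iff_ne_zero.2 fun h => hr (Ideal.Quotient.eq_zero_iff_mem.1 h)

theorem ordR_mul {r s : R} (hr : r ∉ q) : ordR q (r * s) = ordR q r + ordR q s := by
  rw [ordR, map_mul, Ring.ord_mul' (R ⧸ q) (mk_mem_nonZeroDivisors hr)]
  rfl

theorem ordR_one : ordR q 1 = 0 := by
  rw [ordR, map_one, Ring.ord, Module.length_eq_zero_iff, Ideal.span_singleton_one]
  exact Submodule.Quotient.subsingleton_iff.2 rfl

theorem ordR_ne_top [IsNoetherianRing R] (hq : ringKrullDim (R ⧸ q) = 1) {r : R} (hr : r ∉ q) :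
    ordR q r ≠ ⊤ := by
  haveI := krullDimLE_of_dim q hq
  exact Ring.ord_ne_top (mk_mem_nonZeroDivisors hr)

/-- The integral order of an element off `q`. -/
noncomputable def ordI (r : R) : ℤ := ((ordR q r).toNat : ℤ)

variable [IsNoetherianRing R]

theorem ordI_mul (hq : ringKrullDim (R ⧸ q) = 1) {r s : R} (hr : r ∉ q) (hs : s ∉ q) :
    ordI (q := q) (r * s) = ordI (q := q) r + ordI (q := q) s := by
  rw [ordI, ordR_mul hr, ENat.toNat_add (ordR_ne_top hq hr) (ordR_ne_top hq hs)]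
  push_cast
  rfl

theorem ordFrac_algebraMap (hq : ringKrullDim (R ⧸ q) = 1) {r : R} (hr : r ∉ q) :
    CycAlg.ordFrac (R ⧸ q) q.ResidueField (algebraMap (R ⧸ q) q.ResidueField (Ideal.Quotient.mk q r)) =
      ordI (q := q) r := by
  haveI := krullDimLE_of_dim q hq
  haveI : Nontrivial (R ⧸ q) := Ideal.Quotient.nontrivial_iff.2 (Ideal.IsPrime.ne_top inferInstance)
  rw [CycAlg.ordFrac, dif_pos ⟨inferInstance, inferInstance, inferInstance, inferInstance⟩,
    Ring.ordFrac_eq_ord _ (nonZeroDivisors.ne_zero (mk_mem_nonZeroDivisors hr))]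
  obtain ⟨n, hn⟩ := ENat.ne_top_iff_exists.1 (ordR_ne_top hq hr)
  rw [Ring.ordMonoidWithZeroHom_eq_coe _ (mk_mem_nonZeroDivisors hr) (n := n) hn.symm]
  show Multiplicative.toAdd (Multiplicative.ofAdd (n : ℤ)) = _
  rw [toAdd_ofAdd, ordI, ← hn, ENat.toNat_coe]

theorem ordFrac_mul' (hq : ringKrullDim (R ⧸ q) = 1) {x y : q.ResidueField} (hx : x ≠ 0) (hy : y ≠ 0) :
    CycAlg.ordFrac (R ⧸ q) q.ResidueField (x * y) =
      CycAlg.ordFrac (R ⧸ q) q.ResidueField x + CycAlg.ordFrac (R ⧸ q) q.ResidueField y := by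
  haveI := krullDimLE_of_dim q hq
  haveI : Nontrivial (R ⧸ q) := Ideal.Quotient.nontrivial_iff.2 (Ideal.IsPrime.ne_top inferInstance)
  have h : IsNoetherianRing (R ⧸ q) ∧ Ring.KrullDimLE 1 (R ⧸ q) ∧ Nontrivial (R ⧸ q) ∧
      IsFractionRing (R ⧸ q) q.ResidueField :=
    ⟨inferInstance, inferInstance, inferInstance, inferInstance⟩
  simp only [CycAlg.ordFrac, dif_pos h, map_mul]
  obtain ⟨a, ha⟩ := WithZero.ne_zero_iff_exists.1 ((map_ne_zero (Ring.ordFrac (R ⧸ q) (K := q.ResidueField))).2 hx)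
  obtain ⟨b, hb⟩ := WithZero.ne_zero_iff_exists.1 ((map_ne_zero (Ring.ordFrac (R ⧸ q) (K := q.ResidueField))).2 hy)
  rw [← ha, ← hb, ← WithZero.coe_mul]
  rfl

theorem ordFrac_neg (hq : ringKrullDim (R ⧸ q) = 1) {x : q.ResidueField} (hx : x ≠ 0) :
    CycAlg.ordFrac (R ⧸ q) q.ResidueField (-x) = CycAlg.ordFrac (R ⧸ q) q.ResidueField x := by
  have h1 : (-1 : q.ResidueField) ≠ 0 := neg_ne_zero.2 one_ne_zero
  have e := ordFrac_mul' hq h1 h1
  have e1 := ordFrac_mul' hq (one_ne_zero (α := q.ResidueField)) (one_ne_zero (α := q.ResidueField))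
  rw [one_mul] at e1
  rw [neg_one_mul, neg_neg] at e
  rw [← neg_one_mul, ordFrac_mul' hq h1 hx]
  omega

end ord

section lattice

variable (N : Type u) [AddCommGroup N] [Module R N]

local notation "Rq" => Localization.AtPrime q
local notation "Nq" => LocalizedModule q.primeCompl N
local notation "ι" => LocalizedModule.mkLinearMap q.primeCompl N

/-- The elements of `N` falling in a subspace after localisation. -/
noncomputable def sat (W : Submodule (Localization.AtPrime q) (LocalizedModule q.primeCompl N)) :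
    Submodule R N :=
  (W.restrictScalars R).comap (LocalizedModule.mkLinearMap q.primeCompl N)

variable {q N}

theorem mem_sat {W : Submodule Rq Nq} {n : N} : n ∈ sat q N W ↔ ι n ∈ W := Iff.rfl

theorem sat_mono {V W : Submodule Rq Nq} (h : V ≤ W) : sat q N V ≤ sat q N W := fun _ hn => h hn

theorem smul_mem_of_mem {W : Submodule Rq Nq} (r : R) {z : Nq} (h : z ∈ W) : r • z ∈ W := by
  rw [← algebraMap_smul Rq r z]; exact W.smul_mem _ h

theorem mem_of_smul_mem {W : Submodule Rq Nq} {s : R} (hs : s ∉ q) {z : Nq} (h : s • z ∈ W) : z ∈ W := by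
  rw [← algebraMap_smul Rq s z] at h
  have hu : IsUnit (algebraMap R Rq s) := IsLocalization.map_units Rq (⟨s, hs⟩ : q.primeCompl)
  exact (Submodule.smul_mem_iff_of_isUnit W hu).1 h

theorem mem_sat_of_smul_mem {W : Submodule Rq Nq} {s : R} (hs : s ∉ q) {n : N} (h : s • n ∈ sat q N W) :
    n ∈ sat q N W := by
  rw [mem_sat, map_smul] at h
  exact mem_of_smul_mem hs h

theorem smul_mem_of_mem_prime {V : Submodule Rq Nq} {x : Nq} (hV : ∀ c ∈ maximalIdeal Rq, c • x ∈ V)
    {r : R} (hr : r ∈ q) : r • x ∈ V := by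
  rw [← algebraMap_smul Rq r x]
  exact hV _ ((IsLocalization.AtPrime.to_map_mem_maximal_iff Rq q r).2 hr)

theorem exists_num (z : Nq) : ∃ (s : R) (_ : s ∉ q) (n : N), ι n = s • z := by
  obtain ⟨⟨n, s⟩, h⟩ := IsLocalizedModule.surj q.primeCompl (LocalizedModule.mkLinearMap q.primeCompl N) z
  exact ⟨s, s.2, n, h.symm⟩

/-- The number `length - ord` attached to a numerator. -/
noncomputable def val (V W : Submodule Rq Nq) (s : R) (n : N) : ℤ :=
  ((relLen (sat q N V ⊔ R ∙ n) (sat q N W)).toNat : ℤ) - ordI (q := q) s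

variable [IsNoetherianRing R] [Module.Finite R N]

theorem relLen_ne_top_of_le {S S' T : Submodule R N} (h : S ≤ S') (h' : S' ≤ T) (hf : relLen S T ≠ ⊤) :
    relLen S S' ≠ ⊤ ∧ relLen S' T ≠ ⊤ := by
  rw [relLen_add h h'] at hf
  exact ⟨fun e => hf (by rw [e, top_add]), fun e => hf (by rw [e, add_top])⟩

theorem relLen_sat_ne_top (hq : ringKrullDim (R ⧸ q) = 1) {V : Submodule Rq Nq} {x : Nq}
    (hV : ∀ c ∈ maximalIdeal Rq, c • x ∈ V) {s : R} (hs : s ∉ q) {n : N} (hn : ι n - s • x ∈ V) :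
    relLen (sat q N V ⊔ R ∙ n) (sat q N (V ⊔ Rq ∙ x)) ≠ ⊤ := by
  classical
  set S := sat q N V ⊔ R ∙ n
  set T := (sat q N (V ⊔ Rq ∙ x)).map S.mkQ
  have hkill : ∀ z : T, ∃ u ∉ q, u • z = 0 := by
    rintro ⟨_, m, hm, rfl⟩
    obtain ⟨v, hv, w, hw, hvw⟩ := Submodule.mem_sup.1 hm
    obtain ⟨c, rfl⟩ := Submodule.mem_span_singleton.1 hw
    obtain ⟨⟨t, u⟩, htu⟩ := IsLocalization.surj q.primeCompl c
    refine ⟨s * u, fun h => (Ideal.IsPrime.mem_or_mem inferInstance h).elim hs u.2, Subtype.ext ?_⟩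
    show S.mkQ ((s * (u : R)) • m) = 0
    rw [Submodule.mkQ_apply, Submodule.Quotient.mk_eq_zero]
    have : (s * (u : R)) • m - t • n ∈ sat q N V := by
      rw [mem_sat, map_sub, map_smul, map_smul, ← hvw]
      have e : (s * (u : R)) • (v + c • x) - t • ι n = (s * (u : R)) • v - t • (ι n - s • x) := by
        rw [smul_add, smul_sub, smul_smul, ← algebraMap_smul Rq (s * (u : R)) (c • x),
          ← algebraMap_smul Rq (t * s) x, smul_smul, map_mul, map_mul,
          show algebraMap R Rq s * algebraMap R Rq (u : R) * c = algebraMap R Rq t * algebraMap R Rq s by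
            linear_combination (algebraMap R Rq s) * htu]
        abel
      rw [e]
      exact V.sub_mem (smul_mem_of_mem _ hv) (smul_mem_of_mem _ hn)
    have h2 := Submodule.add_mem_sup this (Submodule.smul_mem _ t (Submodule.mem_span_singleton_self n))
    rwa [sub_add_cancel] at h2
  haveI : IsNoetherian R N := isNoetherian_of_isNoetherianRing_of_finite R N
  obtain ⟨G, hG⟩ : T.FG := IsNoetherian.noetherian T
  choose u hu hu0 using hkill
  have hGT : ∀ g : G, (g : N ⧸ S) ∈ T := fun g => hG ▸ Submodule.subset_span g.2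
  set U := ∏ g : G, u ⟨g, hGT g⟩
  have hU : U ∉ q := fun h => by
    obtain ⟨g, -, hg⟩ := (Ideal.IsPrime.prod_mem_iff (hp := inferInstance)).1 h
    exact hu _ hg
  set J := q ⊔ Ideal.span {U}
  have hJ : ∀ r ∈ J, ∀ z ∈ T, r • z = 0 := by
    intro r hr z hz
    rw [← hG] at hz
    induction hz using Submodule.span_induction with
    | zero => exact smul_zero _
    | add y z _ _ hy hz => rw [smul_add, hy, hz, add_zero]
    | smul a y _ hy => rw [smul_comm, hy, smul_zero]
    | mem g hg =>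
      obtain ⟨r₁, hr₁, r₂, hr₂, rfl⟩ := Submodule.mem_sup.1 hr
      obtain ⟨b, rfl⟩ := Ideal.mem_span_singleton'.1 hr₂
      rw [add_smul, mul_smul]
      have h1 : U • g = 0 := by
        have := congrArg Subtype.val (hu0 ⟨g, hGT ⟨g, hg⟩⟩)
        simp only [Submodule.coe_smul, Submodule.coe_zero] at this
        rw [show U = (∏ g' ∈ Finset.univ.erase (⟨g, hg⟩ : G), u ⟨g', hGT g'⟩) * u ⟨g, hGT ⟨g, hg⟩⟩ from
          (Finset.prod_erase_mul _ _ (Finset.mem_univ _)).symm, mul_smul, this, smul_zero]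
      obtain ⟨m, hm, hmg⟩ := hGT ⟨g, hg⟩
      have h2 : r₁ • g = 0 := by
        change S.mkQ m = g at hmg
        rw [← hmg, ← map_smul, Submodule.mkQ_apply, Submodule.Quotient.mk_eq_zero]
        refine Submodule.mem_sup_left ?_
        rw [mem_sat, map_smul]
        obtain ⟨v, hv, w, hw, hvw⟩ := Submodule.mem_sup.1 hm
        obtain ⟨c, rfl⟩ := Submodule.mem_span_singleton.1 hw
        rw [← hvw, smul_add, smul_comm]
        exact V.add_mem (smul_mem_of_mem _ hv) (V.smul_mem _ (smul_mem_of_mem_prime hV hr₁))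
      rw [h1, h2, smul_zero, add_zero]
  have hfin : Module.length R (R ⧸ J) ≠ ⊤ := by
    have hJ' : Module.length R (R ⧸ J) = Module.length (R ⧸ q) ((R ⧸ q) ⧸ Ideal.span {Ideal.Quotient.mk q U}) := by
      rw [← Module.length_eq_of_surjective (S := R) (R := R ⧸ q)
        (M := (R ⧸ q) ⧸ Ideal.span {Ideal.Quotient.mk q U}) Ideal.Quotient.mk_surjective]
      let f : R →ₗ[R] (R ⧸ q) ⧸ Ideal.span {Ideal.Quotient.mk q U} :=
        ((Ideal.span {Ideal.Quotient.mk q U}).mkQ.restrictScalars R).comp q.mkQ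
      have hf : Function.Surjective f :=
        (Submodule.mkQ_surjective _).comp (Submodule.mkQ_surjective _)
      refine ((Submodule.quotEquivOfEq _ _ ?_).trans (f.quotKerEquivOfSurjective hf)).length_eq
      ext r
      rw [LinearMap.mem_ker]
      show r ∈ J ↔ Submodule.Quotient.mk (Ideal.Quotient.mk q r) = 0
      rw [Submodule.Quotient.mk_eq_zero, Ideal.mem_span_singleton']
      constructor
      · intro hr
        obtain ⟨r₁, hr₁, r₂, hr₂, rfl⟩ := Submodule.mem_sup.1 hr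
        obtain ⟨b, rfl⟩ := Ideal.mem_span_singleton'.1 hr₂
        exact ⟨Ideal.Quotient.mk q b, by
          rw [map_add, Ideal.Quotient.eq_zero_iff_mem.2 hr₁, zero_add, map_mul]⟩
      · rintro ⟨b, hb⟩
        obtain ⟨b, rfl⟩ := Ideal.Quotient.mk_surjective b
        rw [← map_mul, Ideal.Quotient.eq] at hb
        have := Submodule.add_mem_sup (q.neg_mem hb) (Ideal.mem_span_singleton'.2 ⟨b, rfl⟩ : b * U ∈ Ideal.span {U})
        rwa [neg_sub, sub_add_cancel] at this
    rw [hJ']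
    exact ordR_ne_top hq hU
  let F : (G → R ⧸ J) →ₗ[R] T := ∑ g : G,
    (Submodule.liftQ J (LinearMap.toSpanSingleton R T ⟨g, hGT g⟩) (fun r hr => Subtype.ext (hJ r hr g (hGT g)))).comp
      (LinearMap.proj g)
  have hF : Function.Surjective F := by
    rintro ⟨z, hz⟩
    have hz' := hz
    rw [← hG, Submodule.mem_span_finset] at hz'
    obtain ⟨c, -, hc⟩ := hz'
    refine ⟨fun g => Submodule.Quotient.mk (c g), Subtype.ext ?_⟩
    simp only [F, LinearMap.coe_sum, Finset.sum_apply, LinearMap.comp_apply, LinearMap.proj_apply,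
      Submodule.coe_sum]
    rw [← hc, ← Finset.sum_coe_sort G]
    rfl
  refine ne_top_of_le_ne_top ?_ (Module.length_le_of_surjective F hF)
  rw [Module.length_pi_of_fintype]
  exact Finset.sum_induction _ (fun z => z ≠ ⊤) (fun _ _ h₁ h₂ => WithTop.add_ne_top.2 ⟨h₁, h₂⟩)
    ENat.zero_ne_top (fun _ _ => hfin)

theorem val_scale (hq : ringKrullDim (R ⧸ q) = 1) {V : Submodule Rq Nq} {x : Nq}
    (hV : ∀ c ∈ maximalIdeal Rq, c • x ∈ V) (hx : x ∉ V) {s : R} (hs : s ∉ q) {n : N} (hn : ι n - s • x ∈ V)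
    {r : R} (hr : r ∉ q) :
    ((relLen (sat q N V ⊔ R ∙ (r • n)) (sat q N (V ⊔ Rq ∙ x))).toNat : ℤ) =
      ordI (q := q) r + (relLen (sat q N V ⊔ R ∙ n) (sat q N (V ⊔ Rq ∙ x))).toNat := by
  have hle1 : sat q N V ⊔ R ∙ (r • n) ≤ sat q N V ⊔ R ∙ n :=
    sup_le_sup_left ((Submodule.span_singleton_le_iff_mem _ _).2
      (Submodule.smul_mem _ _ (Submodule.mem_span_singleton_self n))) _
  have hnW : n ∈ sat q N (V ⊔ Rq ∙ x) := by
    rw [mem_sat, ← sub_add_cancel (ι n) (s • x), ← algebraMap_smul Rq s x]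
    rw [← algebraMap_smul Rq s x] at hn
    exact Submodule.add_mem_sup hn (Submodule.smul_mem _ _ (Submodule.mem_span_singleton_self x))
  have hle2 : sat q N V ⊔ R ∙ n ≤ sat q N (V ⊔ Rq ∙ x) :=
    sup_le (sat_mono le_sup_left) ((Submodule.span_singleton_le_iff_mem _ _).2 hnW)
  have hnV : n ∉ sat q N V := fun h => hx (mem_of_smul_mem hs (by
    have := V.sub_mem (mem_sat.1 h) hn
    rwa [sub_sub_cancel] at this))
  have hq_n : ∀ y ∈ q, y • n ∈ sat q N V := fun y hy => by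
    rw [mem_sat, map_smul, ← sub_add_cancel (ι n) (s • x), smul_add, smul_comm]
    exact V.add_mem (smul_mem_of_mem _ hn) (smul_mem_of_mem _ (smul_mem_of_mem_prime hV hy))
  have key : relLen (sat q N V ⊔ R ∙ (r • n)) (sat q N V ⊔ R ∙ n) = ordR q r := by
    rw [ordR, Ring.ord, ← Module.length_eq_of_surjective (S := R) (R := R ⧸ q)
      (M := (R ⧸ q) ⧸ Ideal.span {Ideal.Quotient.mk q r}) Ideal.Quotient.mk_surjective]
    set S := sat q N V ⊔ R ∙ (r • n)
    let f₁ : R →ₗ[R] (sat q N V ⊔ R ∙ n).map S.mkQ :=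
      LinearMap.codRestrict _ (S.mkQ.comp (LinearMap.toSpanSingleton R N n)) fun y =>
        ⟨y • n, Submodule.mem_sup_right (Submodule.smul_mem _ _ (Submodule.mem_span_singleton_self n)), rfl⟩
    let f₂ : R →ₗ[R] (R ⧸ q) ⧸ Ideal.span {Ideal.Quotient.mk q r} :=
      ((Ideal.span {Ideal.Quotient.mk q r}).mkQ.restrictScalars R).comp q.mkQ
    have hf₁ : Function.Surjective f₁ := by
      rintro ⟨_, m, hm, rfl⟩
      obtain ⟨v, hv, w, hw, rfl⟩ := Submodule.mem_sup.1 hm
      obtain ⟨y, rfl⟩ := Submodule.mem_span_singleton.1 hw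
      refine ⟨y, Subtype.ext ((Submodule.Quotient.eq S).2 ?_)⟩
      simpa using Submodule.mem_sup_left (T := R ∙ (r • n)) hv
    have hf₂ : Function.Surjective f₂ := (Submodule.mkQ_surjective _).comp (Submodule.mkQ_surjective _)
    refine (((f₁.quotKerEquivOfSurjective hf₁).symm).trans
      ((Submodule.quotEquivOfEq _ _ ?_).trans (f₂.quotKerEquivOfSurjective hf₂))).length_eq
    ext y
    rw [LinearMap.mem_ker, LinearMap.mem_ker]
    constructor
    · intro h
      have h' : y • n ∈ S := (Submodule.Quotient.mk_eq_zero S).1 (congrArg Subtype.val h)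
      obtain ⟨v, hv, w, hw, hvw⟩ := Submodule.mem_sup.1 h'
      obtain ⟨z, rfl⟩ := Submodule.mem_span_singleton.1 hw
      have hyz : y - z * r ∈ q := by
        by_contra hc
        refine hnV (mem_sat_of_smul_mem hc ?_)
        rwa [sub_smul, ← hvw, smul_smul, add_sub_cancel_right]
      show Submodule.Quotient.mk (Ideal.Quotient.mk q y) = 0
      rw [Submodule.Quotient.mk_eq_zero]
      exact Ideal.mem_span_singleton'.2 ⟨Ideal.Quotient.mk q z, by
        rw [← map_mul, Ideal.Quotient.eq, ← neg_sub]; exact q.neg_mem hyz⟩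
    · intro h
      obtain ⟨b, hb⟩ := Ideal.mem_span_singleton'.1
        ((Submodule.Quotient.mk_eq_zero _).1 (h : Submodule.Quotient.mk (Ideal.Quotient.mk q y) = 0))
      obtain ⟨b, rfl⟩ := Ideal.Quotient.mk_surjective b
      rw [← map_mul] at hb
      replace hb : b * r - y ∈ q := Ideal.Quotient.eq.1 hb
      refine Subtype.ext ((Submodule.Quotient.mk_eq_zero S).2 ?_)
      show y • n ∈ S
      have h1 := Submodule.add_mem_sup (hq_n _ (q.neg_mem hb))
        (Submodule.smul_mem _ b (Submodule.mem_span_singleton_self (r • n)))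
      rwa [smul_smul, ← add_smul, neg_sub, sub_add_cancel] at h1
  have hfin := relLen_sat_ne_top hq hV hs hn
  rw [relLen_add hle1 hle2, key, ENat.toNat_add (ordR_ne_top hq hr) hfin]
  push_cast
  rfl

theorem val_eq (hq : ringKrullDim (R ⧸ q) = 1) {V : Submodule Rq Nq} {x : Nq}
    (hV : ∀ c ∈ maximalIdeal Rq, c • x ∈ V) (hx : x ∉ V)
    {s s' : R} (hs : s ∉ q) (hs' : s' ∉ q) {n n' : N} (hn : ι n - s • x ∈ V) (hn' : ι n' - s' • x ∈ V) :
    val V (V ⊔ Rq ∙ x) s n = val V (V ⊔ Rq ∙ x) s' n' := by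
  have hd : s' • n - s • n' ∈ sat q N V := by
    rw [mem_sat, map_sub, map_smul, map_smul]
    have e : s' • ι n - s • ι n' = s' • (ι n - s • x) - s • (ι n' - s' • x) := by
      rw [smul_sub, smul_sub, smul_comm s s']; abel
    rw [e]
    exact V.sub_mem (smul_mem_of_mem _ hn) (smul_mem_of_mem _ hn')
  have hsup : sat q N V ⊔ R ∙ (s' • n) = sat q N V ⊔ R ∙ (s • n') := by
    apply le_antisymm <;> refine sup_le le_sup_left ((Submodule.span_singleton_le_iff_mem _ _).2 ?_)
    · have := Submodule.add_mem_sup hd (Submodule.mem_span_singleton_self (s • n'))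
      rwa [sub_add_cancel] at this
    · have := Submodule.add_mem_sup ((sat q N V).neg_mem hd) (Submodule.mem_span_singleton_self (s' • n))
      rwa [neg_sub, sub_add_cancel] at this
  have h1 := val_scale hq hV hx hs hn hs'
  have h2 := val_scale hq hV hx hs' hn' hs
  rw [hsup] at h1
  simp only [val]
  omega

variable {l : ℕ}

/-- The contribution of the `i`-th entry. -/
noncomputable def lam (e : Fin l → Nq) (i : Fin l) : ℤ :=
  val (spanBefore Rq Nq e i) (spanBefore Rq Nq e i ⊔ Rq ∙ e i)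
    (exists_num (e i)).choose (exists_num (e i)).choose_spec.choose_spec.choose

theorem lam_eq (hq : ringKrullDim (R ⧸ q) = 1) {e : Fin l → Nq} (he : IsAdmissible Rq Nq e)
    (hs : Strict (R := Rq) e) (i : Fin l) {s : R} (hsq : s ∉ q) {n : N}
    (hn : ι n - s • e i ∈ spanBefore Rq Nq e i) :
    lam e i = val (spanBefore Rq Nq e i) (spanBefore Rq Nq e i ⊔ Rq ∙ e i) s n :=
  val_eq hq (he i) (hs i) (exists_num (e i)).choose_spec.choose hsq
    (by rw [(exists_num (e i)).choose_spec.choose_spec.choose_spec, sub_self]; exact Submodule.zero_mem _) hn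

/-- The index of the lattice of a tuple. -/
noncomputable def idx (e : Fin l → Nq) : ℤ := ∑ i, lam e i

theorem idx_modify (hq : ringKrullDim (R ⧸ q) = 1) (e e' : Adm Rq Nq l) (hs : Strict (R := Rq) e.1)
    (hs' : Strict (R := Rq) e'.1) (a : Fin l) (c : Rqˣ) (hne : ∀ j, j ≠ a → e.1 j = e'.1 j)
    (h : e.1 a - (c : Rq) • e'.1 a ∈ spanBefore Rq Nq e.1 a) :
    idx e.1 = CycAlg.ordFrac (R ⧸ q) q.ResidueField (residue Rq (c : Rq)) + idx e'.1 := by
  classical
  have hspan := spanBefore_eq_of_modify a c hne h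
  have hoff : ∀ j, j ≠ a → lam e.1 j = lam e'.1 j := fun j hj => by
    obtain ⟨s, hsq, n, hn⟩ := exists_num (q := q) (e.1 j)
    rw [lam_eq hq e.2 hs j hsq (n := n) (by rw [hn, sub_self]; exact Submodule.zero_mem _),
      lam_eq hq e'.2 hs' j hsq (n := n) (by rw [← hne j hj, hn, sub_self]; exact Submodule.zero_mem _),
      hspan, hne j hj]
  obtain ⟨⟨r, t⟩, hrt⟩ := IsLocalization.surj q.primeCompl (c : Rq)
  have hr : r ∉ q := fun hr => by
    have h1 : IsUnit ((c : Rq) * algebraMap R Rq (t : R)) :=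
      c.isUnit.mul (IsLocalization.map_units Rq t)
    rw [hrt] at h1
    exact (IsLocalization.AtPrime.to_map_mem_maximal_iff Rq q r).2 hr h1
  obtain ⟨s', hs'q, n', hn'⟩ := exists_num (q := q) (e'.1 a)
  have h0 : ι n' - s' • e'.1 a ∈ spanBefore Rq Nq e'.1 a := by
    rw [hn', sub_self]; exact Submodule.zero_mem _
  have h1 : ι (r • n') - ((t : R) * s') • e.1 a ∈ spanBefore Rq Nq e.1 a := by
    have e1 : ι (r • n') - ((t : R) * s') • e.1 a = -(((t : R) * s') • (e.1 a - (c : Rq) • e'.1 a)) := by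
      rw [map_smul, hn', smul_sub, ← algebraMap_smul Rq ((t : R) * s') ((c : Rq) • e'.1 a), smul_smul,
        smul_smul, map_mul, show algebraMap R Rq (t : R) * algebraMap R Rq s' * (c : Rq) = algebraMap R Rq (r * s') by
          rw [map_mul]; linear_combination (algebraMap R Rq s') * hrt, algebraMap_smul]
      abel
    rw [e1]
    exact Submodule.neg_mem _ (smul_mem_of_mem _ h)
  have hts : (t : R) * s' ∉ q := fun hh => (Ideal.IsPrime.mem_or_mem inferInstance hh).elim t.2 hs'q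
  have hW : spanBefore Rq Nq e.1 a ⊔ Rq ∙ e.1 a = spanBefore Rq Nq e'.1 a ⊔ Rq ∙ e'.1 a := by
    rw [← spanBefore_succ, ← spanBefore_succ, hspan]
  have hla : lam e.1 a = CycAlg.ordFrac (R ⧸ q) q.ResidueField (residue Rq (c : Rq)) + lam e'.1 a := by
    rw [lam_eq hq e.2 hs a hts h1, lam_eq hq e'.2 hs' a hs'q h0, hW, hspan, val, val,
      val_scale hq (e'.2 a) (hs' a) hs'q h0 hr, ordI_mul hq t.2 hs'q]
    have h2 : residue Rq (c : Rq) *
        algebraMap (R ⧸ q) q.ResidueField (Ideal.Quotient.mk q (t : R)) =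
        algebraMap (R ⧸ q) q.ResidueField (Ideal.Quotient.mk q r) := congrArg (residue Rq) hrt
    have hc0 : residue Rq (c : Rq) ≠ 0 := (IsUnit.map _ c.isUnit).ne_zero
    have ht0 : algebraMap (R ⧸ q) q.ResidueField (Ideal.Quotient.mk q (t : R)) ≠ 0 := fun hh =>
      t.2 (Ideal.Quotient.eq_zero_iff_mem.1
        (IsFractionRing.injective (R ⧸ q) q.ResidueField (hh.trans (map_zero _).symm)))
    have h3 := ordFrac_mul' hq hc0 ht0
    rw [h2, ordFrac_algebraMap hq hr, ordFrac_algebraMap hq t.2] at h3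
    omega
  simp only [idx]
  rw [← Finset.add_sum_erase _ _ (Finset.mem_univ a), ← Finset.add_sum_erase _ (lam e'.1) (Finset.mem_univ a),
    Finset.sum_congr rfl (fun j hj => hoff j (Finset.ne_of_mem_erase hj)), hla]
  ring

theorem idx_swap (hq : ringKrullDim (R ⧸ q) = 1) (e e' : Adm Rq Nq l) (hs : Strict (R := Rq) e.1)
    (hs' : Strict (R := Rq) e'.1) (a b : Fin l) (hab : (b : ℕ) + 1 = a)
    (h : ∀ r ∈ maximalIdeal Rq, r • e.1 a ∈ spanBefore Rq Nq e.1 b) (he' : e'.1 = e.1 ∘ Equiv.swap a b) :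
    idx e.1 = idx e'.1 := by
  classical
  have hne : a ≠ b := fun hh => by rw [hh] at hab; omega
  have hoff : ∀ j, j ≠ a → j ≠ b → lam e.1 j = lam e'.1 j := fun j hja hjb => by
    have hej : e'.1 j = e.1 j := by rw [he', Function.comp_apply, Equiv.swap_apply_of_ne_of_ne hja hjb]
    obtain ⟨s, hsq, n, hn⟩ := exists_num (q := q) (e.1 j)
    rw [lam_eq hq e.2 hs j hsq (n := n) (by rw [hn, sub_self]; exact Submodule.zero_mem _),
      lam_eq hq e'.2 hs' j hsq (n := n) (by rw [hej, hn, sub_self]; exact Submodule.zero_mem _), hej,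
      he', spanBefore_comp_swap e.1 hab (fun hh => hja (Fin.ext hh))]
  obtain ⟨s1, hs1, n1, hn1⟩ := exists_num (q := q) (e.1 b)
  obtain ⟨s2, hs2, n2, hn2⟩ := exists_num (q := q) (e.1 a)
  set V := spanBefore Rq Nq e.1 b
  have hV' : spanBefore Rq Nq e'.1 b = V := by rw [he', spanBefore_comp_swap e.1 hab (by omega)]
  have ha1 : spanBefore Rq Nq e.1 a = V ⊔ Rq ∙ e.1 b := by rw [← hab, spanBefore_succ]
  have heb : e'.1 b = e.1 a := by simp [he']
  have hea : e'.1 a = e.1 b := by simp [he']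
  have ha2 : spanBefore Rq Nq e'.1 a = V ⊔ Rq ∙ e.1 a := by rw [← hab, spanBefore_succ, hV', heb]
  -- the pair as one step
  have pair : ∀ (x y : Nq) (s t : R) (n m : N), s ∉ q → t ∉ q → ι n = s • x → ι m = t • y →
      (∀ c ∈ maximalIdeal Rq, c • x ∈ V) → (∀ c ∈ maximalIdeal Rq, c • y ∈ V) → x ∉ V →
      y ∉ V ⊔ Rq ∙ x →
      val V (V ⊔ Rq ∙ x) s n + val (V ⊔ Rq ∙ x) (V ⊔ Rq ∙ x ⊔ Rq ∙ y) t m =
        ((relLen (sat q N V ⊔ R ∙ n ⊔ R ∙ m) (sat q N (V ⊔ Rq ∙ x ⊔ Rq ∙ y))).toNat : ℤ) -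
          (ordI (q := q) s + ordI (q := q) t) := by
    intro x y s t n m hs ht hn hm hx hy hxV hyV
    have hmem : ∀ (W : Submodule Rq Nq) (z : Nq) (r : R) (k : N), ι k = r • z → z ∈ W → k ∈ sat q N W :=
      fun W z r k hk hz => by rw [mem_sat, hk]; exact smul_mem_of_mem _ hz
    have hnW : R ∙ n ≤ sat q N (V ⊔ Rq ∙ x) := (Submodule.span_singleton_le_iff_mem _ _).2
      (hmem _ x s n hn (Submodule.mem_sup_right (Submodule.mem_span_singleton_self x)))
    have hmW : R ∙ m ≤ sat q N (V ⊔ Rq ∙ x ⊔ Rq ∙ y) := (Submodule.span_singleton_le_iff_mem _ _).2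
      (hmem _ y t m hm (Submodule.mem_sup_right (Submodule.mem_span_singleton_self y)))
    have hV1 : sat q N V ⊔ R ∙ n ≤ sat q N (V ⊔ Rq ∙ x) := sup_le (sat_mono le_sup_left) hnW
    have hiso : relLen (sat q N V ⊔ R ∙ n) (sat q N (V ⊔ Rq ∙ x)) =
        relLen (sat q N V ⊔ R ∙ n ⊔ R ∙ m) (sat q N (V ⊔ Rq ∙ x) ⊔ R ∙ m) := by
      refine relLen_sup _ hV1 ?_
      rintro z ⟨hzT, hz⟩
      obtain ⟨z₁, hz₁, z₂, hz₂, rfl⟩ := Submodule.mem_sup.1 hz
      obtain ⟨w, rfl⟩ := Submodule.mem_span_singleton.1 hz₂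
      refine Submodule.add_mem _ hz₁ (Submodule.mem_sup_left ?_)
      have h1 := Submodule.sub_mem _ hzT (hV1 hz₁)
      rw [add_sub_cancel_left, mem_sat, map_smul, hm] at h1
      have hw : w ∈ q := by
        by_contra hc
        exact hyV (mem_of_smul_mem ht (mem_of_smul_mem hc h1))
      rw [mem_sat, map_smul, hm, smul_comm]
      exact smul_mem_of_mem _ (smul_mem_of_mem_prime hy hw)
    have hf1 := relLen_sat_ne_top hq hx hs (n := n) (by rw [hn, sub_self]; exact V.zero_mem)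
    have hf2 := relLen_sat_ne_top hq (V := V ⊔ Rq ∙ x) (fun c hc => Submodule.mem_sup_left (hy c hc)) ht
      (n := m) (by rw [hm, sub_self]; exact Submodule.zero_mem _)
    rw [relLen_add (sup_le_sup_right hV1 _) (sup_le (sat_mono le_sup_left) hmW), ← hiso,
      ENat.toNat_add hf1 hf2]
    simp only [val]
    push_cast
    ring
  have p1 := pair (e.1 b) (e.1 a) s1 s2 n1 n2 hs1 hs2 hn1 hn2 (e.2 b) h (hs b) (ha1 ▸ hs a)
  have p2 := pair (e.1 a) (e.1 b) s2 s1 n2 n1 hs2 hs1 hn2 hn1 h (e.2 b) (hV' ▸ heb ▸ hs' b)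
    (ha2 ▸ hea ▸ hs' a)
  have lb : lam e.1 b = val V (V ⊔ Rq ∙ e.1 b) s1 n1 :=
    lam_eq hq e.2 hs b hs1 (by rw [hn1, sub_self]; exact Submodule.zero_mem _)
  have la : lam e.1 a = val (V ⊔ Rq ∙ e.1 b) (V ⊔ Rq ∙ e.1 b ⊔ Rq ∙ e.1 a) s2 n2 := by
    rw [lam_eq hq e.2 hs a hs2 (n := n2) (by rw [hn2, sub_self]; exact Submodule.zero_mem _), ha1]
  have lb' : lam e'.1 b = val V (V ⊔ Rq ∙ e.1 a) s2 n2 := by
    rw [lam_eq hq e'.2 hs' b hs2 (n := n2) (by rw [heb, hn2, sub_self]; exact Submodule.zero_mem _), hV', heb]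
  have la' : lam e'.1 a = val (V ⊔ Rq ∙ e.1 a) (V ⊔ Rq ∙ e.1 a ⊔ Rq ∙ e.1 b) s1 n1 := by
    rw [lam_eq hq e'.2 hs' a hs1 (n := n1) (by rw [hea, hn1, sub_self]; exact Submodule.zero_mem _), ha2, hea]
  rw [sup_right_comm (sat q N V) (R ∙ n2) (R ∙ n1), sup_right_comm V (Rq ∙ e.1 a) (Rq ∙ e.1 b)] at p2
  simp only [idx]
  rw [← Finset.add_sum_erase _ _ (Finset.mem_univ a), ← Finset.add_sum_erase _ (lam e'.1) (Finset.mem_univ a),
    ← Finset.add_sum_erase (Finset.univ.erase a) (lam e.1) (Finset.mem_erase.2 ⟨hne.symm, Finset.mem_univ b⟩),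
    ← Finset.add_sum_erase (Finset.univ.erase a) (lam e'.1) (Finset.mem_erase.2 ⟨hne.symm, Finset.mem_univ b⟩),
    Finset.sum_congr rfl (fun j hj => hoff j (Finset.ne_of_mem_erase (Finset.mem_of_mem_erase hj))
      (Finset.ne_of_mem_erase hj))]
  rw [sup_right_comm V (Rq ∙ e.1 a) (Rq ∙ e.1 b)] at la'
  linarith

/-- Indices of two generating tuples differ by the order of the ratio of their symbols. -/
theorem idx_eq_of_symbol (hq : ringKrullDim (R ⧸ q) = 1) (hl : Module.length Rq Nq = (l : ℕ∞))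
    (ex ey : Adm Rq Nq l) (hx : Submodule.span Rq (Set.range ex.1) = ⊤)
    (f : q.ResidueField) (h : GrothLib.CycDetL.q Rq ex = f • GrothLib.CycDetL.q Rq ey) :
    idx ex.1 = CycAlg.ordFrac (R ⧸ q) q.ResidueField f + idx ey.1 := by
  classical
  obtain ⟨F⟩ := (exists_fn_and_gen l Nq hl).1
  let κ := ResidueField Rq
  let ψ : Adm Rq Nq l → ℤ := fun e => idx e.1 - CycAlg.ordFrac (R ⧸ q) q.ResidueField (F.φ e)
  let v : Adm Rq Nq l → (ℤ →₀ κ) := fun e => Finsupp.single (ψ e) (F.φ e)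
  let Φ : Free Rq Nq l →ₗ[κ] (ℤ →₀ κ) := Finsupp.linearCombination κ v
  have hsym : ∀ e, Φ (sym Rq Nq e) = v e := fun e => by simp [Φ, sym]
  have hv0 : ∀ e : Adm Rq Nq l, Submodule.span Rq (Set.range e.1) ≠ ⊤ → v e = 0 := fun e he => by
    simp [v, F.zero e he]
  have hmod : ∀ (e e' : Adm Rq Nq l) (a : Fin l) (c : Rqˣ), (∀ j, j ≠ a → e.1 j = e'.1 j) →
      e.1 a - (c : Rq) • e'.1 a ∈ spanBefore Rq Nq e.1 a → v e = residue Rq (c : Rq) • v e' := by
    intro e e' a c hne hc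
    have hs : Submodule.span Rq (Set.range e.1) = Submodule.span Rq (Set.range e'.1) := by
      rw [← spanBefore_last, ← spanBefore_last, spanBefore_eq_of_modify a c hne hc]
    by_cases he : Submodule.span Rq (Set.range e.1) = ⊤
    · have h1 := idx_modify hq e e' ((span_eq_top_iff e hl).1 he)
        ((span_eq_top_iff e' hl).1 (hs ▸ he)) a c hne hc
      have h2 := F.modify e e' a c hne hc
      have h3 := ordFrac_mul' hq (x := residue Rq (c : Rq)) (y := F.φ e')
        ((IsUnit.map _ c.isUnit).ne_zero) (F.ne_zero e' (hs ▸ he))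
      rw [← h2] at h3
      have h4 : ψ e = ψ e' := by
        show idx e.1 - _ = idx e'.1 - _
        omega
      simp only [v, h4, h2, Finsupp.smul_single, smul_eq_mul]
    · rw [hv0 e he, hv0 e' (hs ▸ he), smul_zero]
  have hswap : ∀ (e e' : Adm Rq Nq l) (a b : Fin l), (b : ℕ) + 1 = a →
      (∀ r ∈ maximalIdeal Rq, r • e.1 a ∈ spanBefore Rq Nq e.1 b) →
      e'.1 = e.1 ∘ Equiv.swap a b → v e = -v e' := by
    intro e e' a b hab hr he'
    have hs : Submodule.span Rq (Set.range e'.1) = Submodule.span Rq (Set.range e.1) := by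
      simp [he', Set.range_comp]
    by_cases he : Submodule.span Rq (Set.range e.1) = ⊤
    · have h1 := idx_swap hq e e' ((span_eq_top_iff e hl).1 he)
        ((span_eq_top_iff e' hl).1 (hs.trans he)) a b hab hr he'
      have h2 := F.swap e e' a b hab hr he'
      have h3 : CycAlg.ordFrac (R ⧸ q) q.ResidueField (F.φ e) =
          CycAlg.ordFrac (R ⧸ q) q.ResidueField (F.φ e') := by
        rw [h2]; exact ordFrac_neg hq (F.ne_zero e' (hs.trans he))
      have h4 : ψ e = ψ e' := by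
        show idx e.1 - _ = idx e'.1 - _
        omega
      simp only [v, h4, h2, Finsupp.single_neg]
    · rw [hv0 e he, hv0 e' (fun hh => he (hs.symm.trans hh)), neg_zero]
  have hle : Submodule.span κ (relSet Rq Nq l) ≤ LinearMap.ker Φ := by
    rw [Submodule.span_le]
    rintro _ ((⟨e, a, ha, rfl⟩ | ⟨e, e', a, c, hne, hc, rfl⟩) | ⟨e, e', a, b, hab, hr, he', rfl⟩)
    · simp only [SetLike.mem_coe, LinearMap.mem_ker, hsym]
      exact hv0 e fun he => (span_eq_top_iff e hl).1 he a ha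
    · simp only [SetLike.mem_coe, LinearMap.mem_ker, map_sub, map_smul, hsym]
      rw [hmod e e' a c hne hc, sub_self]
    · simp only [SetLike.mem_coe, LinearMap.mem_ker, map_add, hsym]
      rw [hswap e e' a b hab hr he', neg_add_cancel]
  have heq : v ex = f • v ey := by
    have := congrArg (Submodule.liftQ _ Φ hle) h
    simpa [GrothLib.CycDetL.q, hsym] using this
  have hxne := F.ne_zero ex hx
  simp only [v, Finsupp.smul_single, smul_eq_mul, Finsupp.single_eq_single_iff] at heq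
  obtain ⟨hψ, hφ⟩ := heq.resolve_right fun hh => hxne hh.1
  have hf : f ≠ 0 := fun hf0 => hxne (by rw [hφ, hf0, zero_mul])
  have hy0 : F.φ ey ≠ 0 := fun h0 => hxne (by rw [hφ, h0, mul_zero])
  have h3 := ordFrac_mul' hq hf hy0
  rw [← hφ] at h3
  have hψ' : idx ex.1 - _ = idx ey.1 - _ := hψ
  omega

end lattice

end GrothLib.CycDetL
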